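import Cfsg.Agent.Lib.WardCore
import Cfsg.Agent.Cores.Basic
import Cfsg.Agent.Cores.Fitting
import Cfsg.Agent.Lib.MinimalNormal
import Cfsg.Agent.Solvable.FixedPointFree
import Cfsg.Agent.PSolv.HallHigman
import Cfsg.Agent.PGroup.Frattini

/-!
# Ward's theorem: a fixed-point-free `p × p` gives Fitting height at most two
-/

set_option linter.style.haveILetI false

namespace Cfsg.Agent.Ward

open scoped commutatorElement
open Subgroup

/-- A solvable group in which elements of prime power order centralize the other primary cores is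
nilpotent. -/
theorem isNilpotent_of_forall_commute {H : Type*} [Group H] [Finite H] [Group.IsSolvable H]
    (h : ∀ s t : ℕ, s.Prime → t.Prime → s ≠ t → ∀ x : H, (∃ k, orderOf x = s ^ k) →
      ∀ y ∈ Cfsg.pCore t H, Commute x y) : Group.IsNilpotent H := by
  set F := Cfsg.fittingSubgroup H with hF
  rw [← Cores.fittingSubgroup_eq_top_iff]
  by_contra hne
  haveI : Nontrivial (H ⧸ F) := QuotientGroup.nontrivial_iff.mpr hne
  obtain ⟨M, hM, hM1, hmin⟩ := MinNormal.exists_minimal_normal (G := H ⧸ F)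
  haveI := hM
  obtain ⟨-, s, hs, -, hMs⟩ := MinNormal.elementary_abelian M hM1 hmin
  haveI := Fact.mk hs
  set N := M.comap (QuotientGroup.mk' F) with hN
  have hFN : F ≤ N := QuotientGroup.le_comap_mk' F M
  set FN := F.subgroupOf N with hFNdef
  haveI : FN.Normal := (inferInstance : F.Normal).subgroupOf N
  obtain ⟨S⟩ : Nonempty (Sylow s N) := inferInstance
  have hsup : FN ⊔ (S : Subgroup N) = ⊤ := by
    rw [← index_eq_one]
    have hk : ∃ k, FN.index = s ^ k := by
      obtain ⟨k, hk⟩ := IsPGroup.iff_card.mp hMs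
      refine ⟨k, ?_⟩
      have h2 : F.relIndex N = Nat.card M := by
        have h3 := Subgroup.relIndex_comap ⊥ (QuotientGroup.mk' F) N
        rw [MonoidHom.comap_bot, QuotientGroup.ker_mk', hN,
          map_comap_eq_self_of_surjective (QuotientGroup.mk'_surjective F), relIndex_bot_left] at h3
        exact h3
      exact h2.trans hk
    obtain ⟨k, hk⟩ := hk
    exact Nat.eq_one_of_dvd_coprimes
      (((hs.coprime_iff_not_dvd).mpr S.not_dvd_index).pow_left k)
      (hk ▸ index_dvd_of_le le_sup_left) (index_dvd_of_le le_sup_right)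
  have hSn : (S : Subgroup N).Normal := by
    rw [← normalizer_eq_top_iff, eq_top_iff, ← hsup]
    refine sup_le ?_ le_normalizer
    intro x hx
    have hxF : (x : H) ∈ F := hx
    rw [hF, Cores.fittingSubgroup_eq_iSup_pCore] at hxF
    have hle : (⨆ q : Nat.Primes, Cfsg.pCore (q : ℕ) H) ≤
        (normalizer ((S : Subgroup N) : Set N)).map N.subtype := by
      refine iSup_le fun q z hz => ?_
      haveI := Fact.mk q.2
      have hzN : z ∈ N := hFN (Cores.pCore_le_fittingSubgroup hz)
      refine ⟨⟨z, hzN⟩, ?_, rfl⟩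
      by_cases hqs : (q : ℕ) = s
      · refine le_normalizer (Cores.pCore_le_sylow S ?_)
        haveI : ((Cfsg.pCore (q : ℕ) H).subgroupOf N).Normal :=
          (inferInstance : (Cfsg.pCore (q : ℕ) H).Normal).subgroupOf N
        refine Cores.le_pCore (N := (Cfsg.pCore (q : ℕ) H).subgroupOf N) inferInstance ?_
          (show (⟨z, hzN⟩ : N) ∈ _ from hz)
        rw [← hqs]
        exact (Cores.pCore_isPGroup).of_equiv
          (subgroupOfEquivOfLe (Cores.pCore_le_fittingSubgroup.trans hFN)).symm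
      · refine centralizer_le_normalizer _ (mem_centralizer_iff.mpr fun y hy => ?_)
        obtain ⟨k, hk⟩ := Element.orderOf_eq_pow_of_mem_isPGroup S.isPGroup' hy
        exact Subtype.ext (h s q hs q.2 (Ne.symm hqs) (y : H) ⟨k, by rw [Subgroup.orderOf_coe, hk]⟩ z hz).eq
    obtain ⟨y, hy, hyx⟩ := hle hxF
    rwa [show x = y from Subtype.ext hyx.symm]
  have hNnil : Group.IsNilpotent N := by
    rw [← Cores.fittingSubgroup_eq_top_iff, eq_top_iff, ← hsup]
    refine sup_le (Cores.le_fittingSubgroup inferInstance ?_)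
      (Cores.le_fittingSubgroup hSn S.isPGroup'.isNilpotent)
    haveI := Cores.fittingSubgroup_isNilpotent (G := H)
    exact Group.nilpotent_of_mulEquiv (subgroupOfEquivOfLe hFN).symm
  have hle : N ≤ F := Cores.le_fittingSubgroup (hM.comap _) hNnil
  apply hM1
  rw [← map_comap_eq_self_of_surjective (QuotientGroup.mk'_surjective F) M, eq_bot_iff,
    map_le_iff_le_comap, MonoidHom.comap_bot, QuotientGroup.ker_mk']
  exact hle

variable {Γ : Type*} [Group Γ] [Finite Γ]

/-- `A ≅ p × p` acts fixed-point-freely on the normal subgroup `G`. -/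
structure IsPairAction (p : ℕ) (G A : Subgroup Γ) : Prop where
  comm : IsMulCommutative A
  card_eq : Nat.card A = p ^ 2
  pow_eq : ∀ a ∈ A, a ^ p = 1
  normal : G.Normal
  coprime : (Nat.card G).Coprime p
  fix : G ⊓ centralizer (A : Set Γ) = ⊥

variable {p : ℕ} [Fact p.Prime] {G A : Subgroup Γ}

theorem IsPairAction.quotient (hA : IsPairAction p G A) (N : Subgroup Γ) [N.Normal] (hN : N ≤ G) :
    IsPairAction p (G.map (QuotientGroup.mk' N)) (A.map (QuotientGroup.mk' N)) where
  comm := by haveI := hA.comm; infer_instance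
  card_eq := by
    rw [← hA.card_eq]
    have hinj : Function.Injective ((QuotientGroup.mk' N).comp A.subtype) := by
      rw [← MonoidHom.ker_eq_bot_iff, eq_bot_iff]
      intro a ha
      have haN : (a : Γ) ∈ G := hN ((QuotientGroup.eq_one_iff _).mp ha)
      rw [mem_bot]
      refine Subtype.ext (Element.eq_one_of_mem_of_coprime haN ?_)
      refine Nat.Coprime.coprime_dvd_left (orderOf_dvd_of_pow_eq_one (hA.pow_eq a a.2)) ?_
      exact hA.coprime.symm
    have hr : A.map (QuotientGroup.mk' N) = ((QuotientGroup.mk' N).comp A.subtype).range := by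
      rw [MonoidHom.range_comp, range_subtype]
    rw [hr]
    exact (Nat.card_congr (MonoidHom.ofInjective hinj).toEquiv).symm
  pow_eq := by
    rintro _ ⟨a, ha, rfl⟩
    rw [← map_pow, hA.pow_eq a ha, map_one]
  normal := hA.normal.map _ (QuotientGroup.mk'_surjective N)
  coprime := hA.coprime.coprime_dvd_left (card_map_dvd G _)
  fix := by
    haveI := hA.comm
    rw [Coprime.inf_centralizer_map_mk' A G N hN
      (by rw [hA.card_eq]; exact (hA.coprime.symm.pow_left 2).coprime_dvd_right (card_dvd_of_le hN))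
      (Or.inl (Group.isSolvable_of_comm fun x y => hA.comm.is_comm.comm x y)), hA.fix, Subgroup.map_bot]

/-- The local form: if `O_{r'}(G) = 1` then `G ⧸ O_r(G)` is nilpotent. -/
theorem isNilpotent_map_pCore (hA : IsPairAction p G A) [Group.IsSolvable G] (r : ℕ) [Fact r.Prime]
    [hP : ((Cfsg.pCore r G).map G.subtype).Normal] (hO : Cfsg.pPrimeCore r G = ⊥) :
    Group.IsNilpotent ↥(G.map (QuotientGroup.mk' ((Cfsg.pCore r G).map G.subtype))) := by
  classical
  haveI := hA.normal
  set P := (Cfsg.pCore r G).map G.subtype with hPdef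
  have hPgrp : IsPGroup r P := Cores.pCore_isPGroup.map _
  have hPG : P ≤ G := map_subtype_le _
  set Φ := (frattini ↥P).map P.subtype with hΦdef
  haveI : Φ.Normal := inferInstance
  have hΦG : Φ ≤ G := (map_subtype_le _).trans hPG
  let fΦ := QuotientGroup.mk' Φ
  set Vs : Subgroup (Γ ⧸ Φ) := P.map fΦ with hVdef
  haveI : Vs.Normal := hP.map fΦ (QuotientGroup.mk'_surjective Φ)
  have hVab : IsMulCommutative Vs := by
    refine ⟨⟨fun a b => Subtype.ext ?_⟩⟩
    obtain ⟨x, hx, hxa⟩ := a.2
    obtain ⟨y, hy, hyb⟩ := b.2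
    show (a : Γ ⧸ Φ) * b = b * a
    rw [← hxa, ← hyb, ← map_mul, ← map_mul]
    apply QuotientGroup.eq.mpr
    have hc : ⁅(⟨y, hy⟩ : P)⁻¹, (⟨x, hx⟩ : P)⁻¹⁆ ∈ frattini ↥P :=
      PGroup.commutatorElement_mem_frattini hPgrp _ _
    refine ⟨_, hc, ?_⟩
    simp only [commutatorElement_def, map_mul, map_inv, inv_inv, Subgroup.coe_subtype]
    group
  letI : CommGroup Vs := { (inferInstance : Group Vs) with mul_comm := fun a b => hVab.is_comm.comm a b }
  let ρ0 : Γ →* MulAut Vs := MulAut.conjNormal.comp fΦ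
  have hker : ∀ x ∈ P, ρ0 x = 1 := fun x hx => MulEquiv.ext fun v => Subtype.ext (by
    show ((MulAut.conjNormal (fΦ x) v : Vs) : Γ ⧸ Φ) = (v : Γ ⧸ Φ)
    rw [MulAut.conjNormal_apply, mul_inv_eq_iff_eq_mul]
    exact congrArg Subtype.val (hVab.is_comm.comm (⟨fΦ x, ⟨x, hx, rfl⟩⟩ : Vs) v))
  let f := QuotientGroup.mk' P
  let ρ : Γ ⧸ P →* MulAut Vs := QuotientGroup.lift P ρ0 fun x hx => hker x hx
  set Q := G.map f with hQdef
  set A' := A.map f with hA'def
  haveI : Q.Normal := hA.normal.map f (QuotientGroup.mk'_surjective P)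
  have hq := hA.quotient P hPG
  have hqΦ := hA.quotient Φ hΦG
  have hpair : IsFPFPair p ρ Q A' :=
    { comm := hq.comm
      card_eq := hq.card_eq
      pow_eq := hq.pow_eq
      norm_le := le_normalizer_of_normal
      fix_group := fun x hx h => mem_bot.mp (hq.fix ▸ mem_inf.mpr ⟨hx, mem_centralizer_iff.mpr h⟩)
      fix_module := fun v h => by
        apply Subtype.ext
        refine mem_bot.mp (hqΦ.fix ▸ mem_inf.mpr ⟨map_mono hPG v.2, mem_centralizer_iff.mpr ?_⟩)
        rintro _ ⟨a, ha, rfl⟩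
        have h1 := congrArg Subtype.val (h (f a) ⟨a, ha, rfl⟩)
        change ((MulAut.conjNormal (fΦ a) v : Vs) : Γ ⧸ Φ) = v at h1
        rw [MulAut.conjNormal_apply, mul_inv_eq_iff_eq_mul] at h1
        exact h1
      coprime_group := hq.coprime
      coprime_module := hA.coprime.coprime_dvd_left ((card_map_dvd P fΦ).trans (card_dvd_of_le hPG)) }
  let g0 : G →* Q := f.subgroupMap G
  have hg0 : Function.Surjective g0 := f.subgroupMap_surjective G
  have hCP : centralizer (Cfsg.pCore r G : Set G) ≤ Cfsg.pCore r G :=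
    PSolv.centralizer_pCore_le (PSolv.isPSolvable_of_isSolvable inferInstance) hO
  have hg0ker : g0.ker ≤ Cfsg.pCore r G := by
    intro g hg
    obtain ⟨g', hg', he⟩ := (QuotientGroup.eq_one_iff (g : Γ)).mp (congrArg Subtype.val hg)
    rwa [← show g' = g from Subtype.ext he]
  have hfaith : ∀ x ∈ Q, (orderOf x).Coprime r → ρ x = 1 → x = 1 := by
    intro x hx hxr hρ
    obtain ⟨g, hg, hgr⟩ := Element.exists_pPrimeElement_preimage (Fact.out : r.Prime) g0 hg0
      (y := ⟨x, hx⟩) (by rwa [Subgroup.orderOf_mk])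
    have hgx : f (g : Γ) = x := congrArg Subtype.val hg
    have hgC : g ∈ centralizer (Cfsg.pCore r G : Set G) := by
      rw [mem_centralizer_iff]
      intro y hy
      refine Subtype.ext (PGroup.commute_of_coprime_of_frattini hPgrp
        (a := (g : Γ)) (by rwa [Subgroup.orderOf_coe])
        (le_normalizer_of_normal (H := P) (K := ⊤) (mem_top (g : Γ))) (fun z hz => ?_) (y : Γ)
        ⟨y, hy, rfl⟩).symm
      have h2 : ρ (f g) ⟨fΦ z, ⟨z, hz, rfl⟩⟩ = (⟨fΦ z, ⟨z, hz, rfl⟩⟩ : Vs) := by rw [hgx, hρ]; rfl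
      have h3 : fΦ g * fΦ z * (fΦ g)⁻¹ = fΦ z := congrArg Subtype.val h2
      rw [← map_inv, ← map_mul, ← map_mul] at h3
      exact QuotientGroup.eq.mp h3.symm
    rw [← hgx]
    exact (QuotientGroup.eq_one_iff _).mpr ⟨g, hCP hgC, rfl⟩
  have hOQ : Cfsg.pCore r Q = ⊥ := by
    have h1 : IsPGroup r ((Cfsg.pCore r Q).comap g0) :=
      IsPGroup.comap_of_ker_isPGroup Cores.pCore_isPGroup g0 (Cores.pCore_isPGroup.to_le hg0ker)
    have h2 := Cores.le_pCore (inferInstance : ((Cfsg.pCore r Q).comap g0).Normal) h1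
    rw [eq_bot_iff]
    intro x hx
    obtain ⟨g, rfl⟩ := hg0 x
    rw [mem_bot]
    refine Subtype.ext ((QuotientGroup.eq_one_iff _).mpr ⟨g, h2 hx, rfl⟩)
  haveI : Group.IsSolvable Q := Group.isSolvable_of_surjective hg0
  refine isNilpotent_of_forall_commute fun s t hs ht hst x hx y hy => ?_
  haveI := Fact.mk hs
  haveI := Fact.mk ht
  rcases eq_or_ne t r with rfl | htr
  · rw [hOQ, mem_bot] at hy
    rw [hy]; exact Commute.one_right x
  set T := (Cfsg.pCore t Q).map Q.subtype with hTdef
  have hTQ : T ≤ Q := map_subtype_le _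
  have hTA : A' ≤ normalizer (T : Set (Γ ⧸ P)) := le_normalizer_of_normal
  have hTgrp : IsPGroup t T := Cores.pCore_isPGroup.map _
  have hTcop : (Nat.card T).Coprime (Nat.card Vs) := by
    obtain ⟨i, hi⟩ := IsPGroup.iff_card.mp hTgrp
    obtain ⟨j, hj⟩ := IsPGroup.iff_card.mp (hPgrp.map fΦ : IsPGroup r Vs)
    rw [hi, hj]
    exact ((Nat.coprime_primes ht Fact.out).mpr htr).pow i j
  have hfaithT : ∀ z ∈ T, ρ z = 1 → z = 1 := fun z hz => by
    refine hfaith z (hTQ hz) ?_
    obtain ⟨i, hi⟩ := Element.orderOf_eq_pow_of_mem_isPGroup hTgrp hz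
    rw [hi]; exact ((Nat.coprime_primes ht Fact.out).mpr htr).pow_left i
  -- an invariant Sylow `s`-subgroup centralizes `T`
  have hcopA : (Nat.card A').Coprime (Nat.card Q) := by
    rw [hq.card_eq]; exact hq.coprime.symm.pow_left 2
  obtain ⟨R, hR⟩ := Coprime.exists_invariant_sylow s (K := Q) hpair.norm_le hcopA
    (Or.inr inferInstance)
  have hRcent : (R : Subgroup Q).map Q.subtype ≤ centralizer (T : Set (Γ ⧸ P)) := by
    refine hpair.le_of_forall_centralizer_le (map_subtype_le _) hR fun a ha ha1 => ?_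
    set C := Q ⊓ centralizer {a} with hC
    have hAC : A' ≤ normalizer (C : Set (Γ ⧸ P)) := by
      intro c hc
      rw [mem_normalizer_iff]
      intro z
      simp only [hC, mem_inf, mem_centralizer_singleton_iff]
      refine and_congr (mem_normalizer_iff.mp (hpair.norm_le hc) z) ?_
      have hcc : Commute c a := hpair.commute hc ha
      constructor <;> intro h
      · exact ((hcc.mul_left h).mul_left hcc.inv_left).eq
      · have h' : Commute (c * z * c⁻¹) a := h
        have h3 := (hcc.inv_left.mul_left h').mul_left hcc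
        rw [show c⁻¹ * (c * z * c⁻¹) * c = z by group] at h3
        exact h3.eq
    obtain ⟨c, hc, hca⟩ := hpair.exists_notMem ha
    haveI : Group.IsSolvable C := Coprime.isSolvable_of_le inf_le_left inferInstance
    haveI hCnil : Group.IsNilpotent C := by
      have hiter : ∀ (n : ℕ) (z : C), (((⇑(C.normalizerMonoidHom ⟨c, hAC hc⟩))^[n] z : C) : Γ ⧸ P) =
          c ^ n * z * (c ^ n)⁻¹ := by
        intro n
        induction n with
        | zero => intro z; simp
        | succ n ih =>
          intro z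
          rw [Function.iterate_succ_apply', show ∀ w : C,
            ((C.normalizerMonoidHom ⟨c, hAC hc⟩ w : C) : Γ ⧸ P) = c * w * c⁻¹ from fun w => rfl, ih,
            pow_succ']
          group
      refine Solvable.isNilpotent_of_fpf_of_isSolvable (Fact.out : p.Prime)
        (φ := C.normalizerMonoidHom ⟨c, hAC hc⟩) ?_ ?_
      · intro z hz
        have hz' : c * (z : Γ ⧸ P) * c⁻¹ = z := congrArg Subtype.val hz
        refine Subtype.ext (hpair.eq_one_of_fixed_group hc ha ha1 hca z.2.1
          (mul_inv_eq_iff_eq_mul.mp hz') ?_)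
        exact (show Commute (z : Γ ⧸ P) a from mem_centralizer_singleton_iff.mp z.2.2).symm
      · funext z
        apply Subtype.ext
        rw [hiter, hpair.pow_eq c hc]
        simp
    set S := (Cfsg.pPrimeCore t C).map C.subtype with hS
    have hSQ : S ≤ Q := (map_subtype_le _).trans inf_le_left
    have hSt : (Nat.card S).Coprime t := Cores.pPrimeCore_coprime.coprime_dvd_left (card_map_dvd _ _)
    have hSA : A' ≤ normalizer (S : Set (Γ ⧸ P)) :=
      hAC.trans (Coprime.normalizer_le_normalizer_map_characteristic C _)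
    have hScent : ∀ z ∈ T, Commute a z → ∀ u ∈ S, Commute u z := by
      intro z hz haz u hu
      obtain ⟨u, hu, rfl⟩ := hu
      have hzC : z ∈ C := ⟨hTQ hz, mem_centralizer_singleton_iff.mpr haz.symm.eq⟩
      haveI : (T.subgroupOf C).Normal := (inferInstance : T.Normal).subgroupOf C
      have hgrp : IsPGroup t (T.subgroupOf C) :=
        hTgrp.comap_of_injective C.subtype C.subtype_injective
      have hzcore : (⟨z, hzC⟩ : C) ∈ Cfsg.pCore t C := Cores.le_pCore inferInstance hgrp hz
      have hcm := mem_centralizer_iff.mp (PSolv.pPrimeCore_le_centralizer_pCore hu) _ hzcore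
      exact (congrArg Subtype.val hcm).symm
    -- `S` centralizes `T`
    have hScop : (Nat.card S).Coprime (Nat.card T) := by
      obtain ⟨i, hi⟩ := IsPGroup.iff_card.mp hTgrp
      rw [hi]; exact hSt.pow_right i
    have hST : S ≤ normalizer (T : Set (Γ ⧸ P)) := le_normalizer_of_normal
    have hcT : ⁅T, S⁆ ≤ T := Coprime.commutator_le_of_le_normalizer hST
    have hbot : ⁅T, S⁆ = ⊥ := by
      refine core_eq_bot hpair (T := ⁅T, S⁆) (S := S) (t := t) (hcT.trans hTQ)
        ((le_inf hTA hSA).trans (Coprime.normalizer_inf_le_normalizer_commutator T S))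
        (hTgrp.to_le hcT) (hTcop.coprime_dvd_left (card_dvd_of_le hcT))
        (fun z hz => hfaithT z (hcT hz)) ha ha1 hSQ hSA
        ((map_subtype_le _).trans inf_le_right) (normalizer_commutator_ge_right T S) hSt
        (fun z hz => hScent z (hcT hz)) ?_
      rw [Coprime.commutator_commutator_eq hST hScop]
    rw [commutator_eq_bot_iff_le_centralizer] at hbot
    intro u hu
    have huC : u ∈ C := ⟨(map_subtype_le _) hu.1, hu.2⟩
    obtain ⟨i, hi⟩ := Element.orderOf_eq_pow_of_mem_isPGroup (R.isPGroup'.map Q.subtype) hu.1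
    obtain ⟨R', hR'⟩ := Element.exists_sylow_mem (g := (⟨u, huC⟩ : C))
      (show orderOf (⟨u, huC⟩ : C) = s ^ i by rw [← Subgroup.orderOf_coe]; exact hi)
    have hR'n : (R' : Subgroup C).Normal :=
      (Group.isNilpotent_of_finite_tfae.out 0 3 rfl rfl).1 hCnil s ⟨hs⟩ R'
    have hcard : (Nat.card (R' : Subgroup C)).Coprime t := by
      obtain ⟨j, hj⟩ := IsPGroup.iff_card.mp R'.isPGroup'
      rw [hj]; exact ((Nat.coprime_primes hs ht).mpr hst).pow_left j
    have huS : u ∈ S := ⟨⟨u, huC⟩, Cores.le_pPrimeCore hR'n hcard hR', rfl⟩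
    exact (le_centralizer_iff.mp hbot) huS
  -- every `s`-element centralizes `T`
  obtain ⟨k, hk⟩ := hx
  obtain ⟨R₁, hR₁⟩ := Element.exists_sylow_mem hk
  obtain ⟨g, hg⟩ := MulAction.exists_smul_eq Q R R₁
  rw [← hg, Sylow.coe_subgroup_smul, Subgroup.mem_pointwise_smul_iff_inv_smul_mem] at hR₁
  have hxR : g⁻¹ * x * g ∈ (R : Subgroup Q) := by
    simpa [MulAut.smul_def, MulAut.conj_inv_apply] using hR₁
  have hy' : g⁻¹ * y * g ∈ Cfsg.pCore t Q := by
    simpa using (inferInstance : (Cfsg.pCore t Q).Normal).conj_mem y hy g⁻¹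
  have hcomm := mem_centralizer_iff.mp (hRcent ⟨_, hxR, rfl⟩) _ ⟨_, hy', rfl⟩
  rw [← map_mul, ← map_mul] at hcomm
  have hcomm' := Q.subtype_injective hcomm
  show x * y = y * x
  calc x * y = g * (g⁻¹ * x * g * (g⁻¹ * y * g)) * g⁻¹ := by group
    _ = g * (g⁻¹ * y * g * (g⁻¹ * x * g)) * g⁻¹ := by rw [hcomm']
    _ = y * x := by group

/-- **Ward's theorem**, in subgroup form: some term of the lower central series lies in `F(G)`. -/
theorem exists_lowerCentralSeries_le_fitting (hA : IsPairAction p G A) [Group.IsSolvable G] :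
    ∃ k, (⊤ : Subgroup G).lowerCentralSeries k ≤ Cfsg.fittingSubgroup G := by
  classical
  haveI := hA.normal
  let ι := {r : ℕ // r.Prime ∧ r ∣ Nat.card G}
  haveI : Finite ι := (Set.Finite.to_subtype
    ((Set.finite_le_nat (Nat.card G)).subset fun r hr => Nat.le_of_dvd Nat.card_pos hr.2))
  have key : ∀ r : ι, ∃ K : Subgroup G,
      (∃ k, (⊤ : Subgroup G).lowerCentralSeries k ≤ K) ∧
      IsPGroup (r : ℕ) ↥(K.map (QuotientGroup.mk' (Cfsg.pPrimeCore (r : ℕ) G))) := by
    intro r
    haveI := Fact.mk r.2.1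
    set N := (Cfsg.pPrimeCore (r : ℕ) G).map G.subtype with hN
    have hNG : N ≤ G := map_subtype_le _
    let f := QuotientGroup.mk' N
    have hA1 := hA.quotient N hNG
    set G1 := G.map f with hG1
    haveI := hA1.normal
    let g1 : G →* G1 := f.subgroupMap G
    have hg1 : Function.Surjective g1 := f.subgroupMap_surjective G
    haveI : Group.IsSolvable G1 := Group.isSolvable_of_surjective hg1
    have hker : g1.ker = Cfsg.pPrimeCore (r : ℕ) G := by
      ext g
      constructor
      · intro hg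
        obtain ⟨g', hg', he⟩ := (QuotientGroup.eq_one_iff (g : Γ)).mp (congrArg Subtype.val hg)
        rwa [← show g' = g from Subtype.ext he]
      · intro hg
        exact Subtype.ext ((QuotientGroup.eq_one_iff (g : Γ)).mpr ⟨g, hg, rfl⟩)
    have hO : Cfsg.pPrimeCore (r : ℕ) G1 = ⊥ := by
      let e : (G ⧸ Cfsg.pPrimeCore (r : ℕ) G) ≃* G1 :=
        (QuotientGroup.quotientMulEquivOfEq hker.symm).trans
          (QuotientGroup.quotientKerEquivOfSurjective g1 hg1)
      rw [← Cores.map_pPrimeCore_equiv e, Cores.pPrimeCore_quotient_pPrimeCore_eq_bot,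
        Subgroup.map_bot]
    set P1 := (Cfsg.pCore (r : ℕ) G1).map G1.subtype with hP1
    haveI : P1.Normal := inferInstance
    haveI := isNilpotent_map_pCore hA1 (r : ℕ) hO
    let g2 := (QuotientGroup.mk' P1).subgroupMap G1
    refine ⟨(g2.comp g1).ker, ?_, ?_⟩
    · obtain ⟨k, hk⟩ := (Subgroup.nilpotent_iff_lowerCentralSeries).mp
        (inferInstance : Group.IsNilpotent ↥(G1.map (QuotientGroup.mk' P1)))
      refine ⟨k, ?_⟩
      have hsurj : Function.Surjective (g2.comp g1) :=
        ((QuotientGroup.mk' P1).subgroupMap_surjective G1).comp hg1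
      have h : ((⊤ : Subgroup G).lowerCentralSeries k).map (g2.comp g1) = ⊥ := by
        rw [Subgroup.map_lowerCentralSeries, Subgroup.map_top_of_surjective _ hsurj, hk]
      rwa [Subgroup.map_eq_bot_iff] at h
    · have hle : ((g2.comp g1).ker).map g1 ≤ Cfsg.pCore (r : ℕ) G1 := by
        rintro _ ⟨g, hg, rfl⟩
        obtain ⟨y, hy, he⟩ := (QuotientGroup.eq_one_iff ((g1 g : G1) : Γ ⧸ N)).mp
          (congrArg Subtype.val hg)
        rwa [← show y = g1 g from Subtype.ext he]
      have h1 : IsPGroup (r : ℕ) ↥(((g2.comp g1).ker).map g1) := Cores.pCore_isPGroup.to_le hle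
      let e : (G ⧸ Cfsg.pPrimeCore (r : ℕ) G) ≃* G1 :=
        (QuotientGroup.quotientMulEquivOfEq hker.symm).trans
          (QuotientGroup.quotientKerEquivOfSurjective g1 hg1)
      have heq : (((g2.comp g1).ker).map (QuotientGroup.mk' (Cfsg.pPrimeCore (r : ℕ) G))).map
          e.toMonoidHom = ((g2.comp g1).ker).map g1 := by
        rw [Subgroup.map_map]
        congr 1
      rw [← heq] at h1
      exact h1.of_equiv (Subgroup.equivMapOfInjective _ e.toMonoidHom e.injective).symm
  choose K hK hKp using key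
  choose k hk using hK
  obtain ⟨m, hm⟩ := Finite.bddAbove_range k
  set L := (⊤ : Subgroup G).lowerCentralSeries m with hL
  have hLK : ∀ r, L ≤ K r := fun r =>
    (Subgroup.lowerCentralSeries_antitone _ (hm ⟨r, rfl⟩)).trans (hk r)
  refine ⟨m, Cores.le_fittingSubgroup inferInstance ?_⟩
  let E : ι → Type _ := fun r => ↥(L.map (QuotientGroup.mk' (Cfsg.pPrimeCore (r : ℕ) G)))
  haveI : ∀ r : ι, Group.IsNilpotent (E r) := fun r => by
    haveI := Fact.mk r.2.1
    exact ((hKp r).to_le (map_mono (hLK r))).isNilpotent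
  let Φ : L →* (∀ r, E r) :=
    Pi.monoidHom fun r => (QuotientGroup.mk' (Cfsg.pPrimeCore (r : ℕ) G)).subgroupMap L
  have hinj : Function.Injective Φ := by
    rw [← MonoidHom.ker_eq_bot_iff, eq_bot_iff]
    intro c hc
    rw [mem_bot]
    by_contra hne
    obtain ⟨r, hr, hrd⟩ := Nat.exists_prime_and_dvd
      (fun h => hne (orderOf_eq_one_iff.mp h) : orderOf c ≠ 1)
    haveI := Fact.mk hr
    have hrd' : r ∣ orderOf (c : G) := by rwa [Subgroup.orderOf_coe]
    have hcO : (c : G) ∈ Cfsg.pPrimeCore r G := by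
      have := congrArg Subtype.val (congrFun hc ⟨r, hr, hrd'.trans (orderOf_dvd_natCard _)⟩)
      exact (QuotientGroup.eq_one_iff _).mp this
    exact (Nat.Prime.coprime_iff_not_dvd hr).mp
      (Cores.orderOf_coprime_of_mem_pPrimeCore hcO).symm hrd'
  exact Group.nilpotent_of_mulEquiv (MonoidHom.ofInjective hinj).symm

omit [Fact p.Prime] in
theorem exists_chain {H : Type*} [Group H] [Finite H] {m : ℕ}
    (hm : (⊤ : Subgroup H).lowerCentralSeries m ≤ Cfsg.fittingSubgroup H) :
    ∃ F : Fin (2 + 1) → Subgroup H, F 0 = ⊥ ∧ F (Fin.last 2) = ⊤ ∧ Monotone F ∧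
      (∀ i, (F i).Normal) ∧
      ∀ i : Fin 2, ∃ k : ℕ, (F i.succ).lowerCentralSeries k ≤ F i.castSucc := by
  refine ⟨![⊥, Cfsg.fittingSubgroup H, ⊤], rfl, rfl, ?_, ?_, ?_⟩
  · rw [Fin.monotone_iff_le_succ]
    intro i
    fin_cases i
    · exact bot_le
    · exact le_top
  · intro i
    fin_cases i
    · exact normal_bot
    · exact (inferInstance : (Cfsg.fittingSubgroup H).Normal)
    · exact normal_top
  · intro i
    fin_cases i
    · obtain ⟨k, hk⟩ := (isNilpotent_iff_lowerCentralSeries _).mp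
        (Cores.fittingSubgroup_isNilpotent (G := H))
      exact ⟨k, hk.le⟩
    · exact ⟨m, hm⟩

end Cfsg.Agent.Ward
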