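import Cfsg.Agent.Alt.Automorphism
import Cfsg.Agent.CharTwo.AltSixAction

/-!
Automorphisms of 3-power order of an alternating group of degree at least five are inner.
-/

set_option autoImplicit false

namespace Cfsg.Agent.AltAutThree

open Equiv Equiv.Perm
open Cfsg.Agent.CharTwo.AltSix

theorem preserves_pow {φ : MulAut (alternatingGroup (Fin 6))} (h : Preserves φ) :
    ∀ j : ℕ, Preserves (φ ^ j)
  | 0 => fun x hx => by simpa using hx
  | j + 1 => fun x hx => by
      rw [pow_succ]
      exact preserves_pow h j _ (h x hx)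

theorem preserves_sq (φ : MulAut (alternatingGroup (Fin 6))) : Preserves (φ ^ 2) := by
  intro x hx
  show IsThreeCycle ((φ (φ x) : alternatingGroup (Fin 6)) : Perm (Fin 6))
  by_cases hy : IsThreeCycle ((φ x : alternatingGroup (Fin 6)) : Perm (Fin 6))
  · have hc : IsConj x (φ x) := alternatingGroup.isThreeCycle_isConj (by simp) hx hy
    exact isThreeCycle_of_isConj (φ.toMonoidHom.map_isConj hc) hy
  by_contra hz
  have hx3 : x ^ 3 = 1 := by
    refine Subtype.ext ?_
    have := pow_orderOf_eq_one (x : Perm (Fin 6))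
    rw [hx.orderOf] at this
    exact this
  have hx1 : x ≠ 1 := by
    rintro rfl
    have := hx.orderOf
    simp at this
  have hne : ∀ {w : alternatingGroup (Fin 6)}, w ≠ 1 → φ w ≠ 1 := fun hw e =>
    hw (φ.injective (e.trans (map_one φ).symm))
  have hc : IsConj (φ x) (φ (φ x)) := isConj_double (by rw [← map_pow, hx3, map_one]) (hne hx1) hy
    (by rw [← map_pow, ← map_pow, hx3, map_one, map_one]) (hne (hne hx1)) hz
  have h2 := φ.symm.toMonoidHom.map_isConj hc
  simp only [MulEquiv.coe_toMonoidHom, MulEquiv.symm_apply_apply] at h2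
  exact hy (isThreeCycle_of_isConj h2 hx)

theorem exists_conjNormal_six {φ : MulAut (alternatingGroup (Fin 6))} (h : Preserves φ)
    (h' : Preserves φ.symm) : ∃ σ : Perm (Fin 6), MulAut.conjNormal σ = φ := by
  classical
  choose k hk using exists_maps h
  have hinj : Function.Injective k := by
    intro i j hij
    obtain ⟨l, hl⟩ := exists_maps h' (k i)
    have h1 : i = l := maps_refl_eq fun x hx => by
      have := hl (φ x) (hk i x hx)
      simpa using this
    have h2 : j = l := maps_refl_eq fun x hx => by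
      have := hl (φ x) (hij ▸ hk j x hx)
      simpa using this
    rw [h1, h2]
  let σ : Perm (Fin 6) := Equiv.ofBijective k (Finite.injective_iff_bijective.1 hinj)
  refine ⟨σ, MulEquiv.ext fun x => Subtype.ext (Equiv.ext fun y => ?_)⟩
  obtain ⟨i, rfl⟩ : ∃ i, σ i = y := ⟨σ⁻¹ y, by simp⟩
  have hm : Maps φ ((x : Perm (Fin 6)) i) ((φ x : Perm (Fin 6)) (k i)) := by
    intro w hw
    have h1 := hk i (x⁻¹ * w * x) (by simp [hw])
    simp only [map_mul, map_inv, Subgroup.coe_mul, Subgroup.coe_inv, Perm.mul_apply] at h1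
    exact Equiv.Perm.inv_eq_iff_eq.1 h1
  have := maps_unique h h' hm (hk ((x : Perm (Fin 6)) i))
  rw [MulAut.conjNormal_apply]
  simp only [Perm.mul_apply, Perm.inv_def, Equiv.symm_apply_apply]
  exact this.symm

theorem exists_inner {n : ℕ} (hn : 5 ≤ n) (φ : MulAut (alternatingGroup (Fin n))) {k : ℕ}
    (hφ : φ ^ (3 ^ k) = 1) : ∃ a : alternatingGroup (Fin n), MulAut.conj a = φ := by
  have hodd : Odd (3 ^ k) := Odd.pow (by decide)
  obtain ⟨σ, hσ⟩ : ∃ σ : Perm (Fin n), MulAut.conjNormal σ = φ := by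
    by_cases h6 : n = 6
    · subst h6
      obtain ⟨t, ht⟩ := hodd
      have e : φ = (φ ^ 2) ^ (t + 1) := by
        rw [← pow_mul, show 2 * (t + 1) = 3 ^ k + 1 by omega, pow_succ, hφ, one_mul]
      have hpres : Preserves φ := e ▸ preserves_pow (preserves_sq φ) (t + 1)
      have e' : φ.symm = φ ^ (3 ^ k - 1) := by
        show φ⁻¹ = _
        refine inv_eq_of_mul_eq_one_right ?_
        rw [← pow_succ', Nat.sub_add_cancel (Nat.one_le_pow _ _ (by norm_num)), hφ]
      exact exists_conjNormal_six hpres (e' ▸ preserves_pow hpres _)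
    · exact Alt.exists_conjNormal_eq (by simp; omega) (by simpa using h6) φ
  have h1 : σ ^ (3 ^ k) = 1 :=
    Alt.conjNormal_injective (by simp; omega) (by rw [map_pow, hσ, hφ, map_one])
  have hs : Perm.sign σ = 1 := by
    have h2 : Perm.sign σ ^ (3 ^ k) = 1 := by rw [← map_pow, h1, map_one]
    rcases Int.units_eq_one_or (Perm.sign σ) with h | h
    · exact h
    · rw [h, Odd.neg_one_pow hodd] at h2
      exact absurd h2 (by decide)
  exact ⟨⟨σ, mem_alternatingGroup.2 hs⟩, (MulAut.conjNormal_val (h := ⟨σ, mem_alternatingGroup.2 hs⟩)).symm.trans hσ⟩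

end Cfsg.Agent.AltAutThree
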