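import Cfsg.Agent.Lib.Element

/-!
# Exponents of finite groups, p-subgroups and Sylow subgroups
-/

namespace Cfsg.Agent.GroupExponent

variable {G : Type*} [Group G]

/-- A group in which every `x ^ p ^ e = 1` is a `p`-group. -/
theorem isPGroup_of_pow {p e : ℕ} (h : ∀ x : G, x ^ p ^ e = 1) : IsPGroup p G := fun x => ⟨e, h x⟩

/-- A finite `p`-group has exponent `p ^ e`, attained by an element. -/
theorem exists_exponent_eq_pow [Finite G] {p : ℕ} [Fact p.Prime] (h : IsPGroup p G) :
    ∃ e, Monoid.exponent G = p ^ e ∧ ∃ x : G, orderOf x = p ^ e := by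
  obtain ⟨n, hn⟩ := IsPGroup.iff_card.mp h
  have hd : Monoid.exponent G ∣ p ^ n := hn ▸ Group.exponent_dvd_nat_card
  obtain ⟨e, -, he⟩ := (Nat.dvd_prime_pow Fact.out).mp hd
  refine ⟨e, he, ?_⟩
  rcases Nat.eq_zero_or_pos e with rfl | hpos
  · exact ⟨1, by simp⟩
  by_contra hne
  push Not at hne
  have : Monoid.exponent G ∣ p ^ (e - 1) := Monoid.exponent_dvd.mpr fun g => by
    have hg : orderOf g ∣ p ^ e := he ▸ Monoid.order_dvd_exponent g
    obtain ⟨k, hk, hgk⟩ := (Nat.dvd_prime_pow Fact.out).mp hg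
    rw [hgk]
    refine pow_dvd_pow p ?_
    rcases hk.lt_or_eq with h | rfl
    · omega
    · exact absurd hgk (hne g)
  rw [he] at this
  have := (Nat.pow_dvd_pow_iff_le_right (Fact.out : p.Prime).one_lt).mp this
  omega

theorem exponent_subgroup_dvd_of_le {H K : Subgroup G} (h : H ≤ K) :
    Monoid.exponent H ∣ Monoid.exponent K :=
  Monoid.exponent_dvd_of_monoidHom (Subgroup.inclusion h) (Subgroup.inclusion_injective h)

theorem exponent_quotient_dvd (N : Subgroup G) [N.Normal] :
    Monoid.exponent (G ⧸ N) ∣ Monoid.exponent G :=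
  MonoidHom.exponent_dvd (f := QuotientGroup.mk' N) (QuotientGroup.mk'_surjective N)

/-- All Sylow `p`-subgroups satisfy a power law as soon as one of them does. -/
theorem forall_sylow_pow [Finite G] {p n : ℕ} [Fact p.Prime] {P : Sylow p G}
    (h : ∀ x ∈ (P : Subgroup G), x ^ n = 1) : ∀ Q : Sylow p G, ∀ x ∈ (Q : Subgroup G), x ^ n = 1 := by
  intro Q x hx
  obtain ⟨g, hg⟩ := MulAction.exists_smul_eq G P Q
  rw [← hg, Sylow.coe_subgroup_smul, Subgroup.mem_pointwise_smul_iff_inv_smul_mem] at hx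
  have := h _ hx
  rwa [MulAut.smul_def, ← map_pow, map_eq_one_iff _ (MulEquiv.injective _)] at this

/-- The Sylow power law in terms of elements of `p`-power order. -/
theorem forall_sylow_pow_iff [Finite G] {p n : ℕ} [Fact p.Prime] :
    (∀ (P : Sylow p G), ∀ x ∈ (P : Subgroup G), x ^ n = 1) ↔
      ∀ x : G, ∀ k, orderOf x = p ^ k → x ^ n = 1 := by
  constructor
  · intro h x k hk
    obtain ⟨P, hP⟩ := Element.exists_sylow_mem hk
    exact h P x hP
  · intro h P x hx
    obtain ⟨k, hk⟩ := Element.orderOf_eq_pow_of_mem_isPGroup P.isPGroup' hx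
    exact h x k hk

/-- A power law on Sylow subgroups passes to quotients. -/
theorem forall_sylow_pow_map [Finite G] {H : Type*} [Group H] [Finite H] {p n : ℕ} [Fact p.Prime]
    (f : G →* H) (hf : Function.Surjective f)
    (h : ∀ (P : Sylow p G), ∀ x ∈ (P : Subgroup G), x ^ n = 1) :
    ∀ (Q : Sylow p H), ∀ y ∈ (Q : Subgroup H), y ^ n = 1 := by
  rw [forall_sylow_pow_iff] at h ⊢
  intro y k hk
  obtain ⟨x, rfl, j, hj⟩ := Element.exists_pElement_preimage Fact.out f hf hk
  rw [← map_pow, h x j hj, map_one]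

/-- A power law on Sylow subgroups passes to subgroups. -/
theorem forall_sylow_pow_subgroup [Finite G] {p n : ℕ} [Fact p.Prime] (K : Subgroup G)
    (h : ∀ (P : Sylow p G), ∀ x ∈ (P : Subgroup G), x ^ n = 1) :
    ∀ (Q : Sylow p K), ∀ y ∈ (Q : Subgroup K), y ^ n = 1 := by
  rw [forall_sylow_pow_iff] at h ⊢
  intro y k hk
  exact Subtype.ext (by simpa using h y k (by rwa [Subgroup.orderOf_coe]))

/-- `v_p (exponent G)` is at most `e` iff the Sylow `p`-subgroups satisfy `x ^ p ^ e = 1`. -/
theorem factorization_exponent_le_iff [Finite G] {p e : ℕ} [Fact p.Prime] :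
    (Monoid.exponent G).factorization p ≤ e ↔
      ∀ (P : Sylow p G), ∀ x ∈ (P : Subgroup G), x ^ p ^ e = 1 := by
  have hp : p.Prime := Fact.out
  have hne : Monoid.exponent G ≠ 0 := Monoid.exponent_ne_zero_of_finite
  rw [forall_sylow_pow_iff]
  constructor
  · intro h x k hk
    rw [← orderOf_dvd_iff_pow_eq_one, hk]
    refine pow_dvd_pow p (le_trans ?_ h)
    rw [← hp.pow_dvd_iff_le_factorization hne, ← hk]
    exact Monoid.order_dvd_exponent x
  · intro h
    by_contra hlt
    have hdvd : Monoid.exponent G ∣ ordCompl[p] (Monoid.exponent G) * p ^ e :=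
      Monoid.exponent_dvd.mpr fun g => by
        have hg := (orderOf_pos g).ne'
        rw [← Nat.ordProj_mul_ordCompl_eq_self (orderOf g) p, mul_comm]
        refine mul_dvd_mul (Nat.ordCompl_dvd_ordCompl_of_dvd (Monoid.order_dvd_exponent g) p) ?_
        rw [← Element.orderOf_pPart_eq_pow hp g, orderOf_dvd_iff_pow_eq_one]
        exact h _ _ (Element.orderOf_pPart_eq_pow hp g)
    have h2 : p ^ (Monoid.exponent G).factorization p ∣ p ^ e :=
      ((Nat.coprime_ordCompl hp hne).pow_left _).dvd_of_dvd_mul_left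
        ((Nat.ordProj_dvd _ _).trans hdvd)
    exact hlt ((Nat.pow_dvd_pow_iff_le_right hp.one_lt).mp h2)

end Cfsg.Agent.GroupExponent
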