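import Mathlib.GroupTheory.OrderOfElement
import Mathlib.GroupTheory.GroupAction.ConjAct
import Mathlib.GroupTheory.GroupAction.Basic
import Mathlib.GroupTheory.QuotientGroup.Finite
import Mathlib.GroupTheory.SpecificGroups.Cyclic
import Mathlib.Data.Nat.Totient
import Mathlib.Data.Nat.ChineseRemainder
import Mathlib.Data.SetLike.Fintype

/-!
Frobenius's theorem on the number of solutions of `g ^ m = 1`.
-/

set_option autoImplicit false

namespace Cfsg.Agent.FrobeniusCount

open Subgroup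

universe u

variable {G : Type u} [Group G] [Finite G]

/-- A weight that is constant on conjugacy classes and divisible by `gcd (s, |C(u)|)` sums to a
multiple of `s`. -/
theorem dvd_card_sigma (U : G → Prop) (hU : ∀ c u, U u → U (c * u * c⁻¹)) (s : ℕ)
    (hs : s ∣ Nat.card G)
    (hC : ∀ u, U u → Nat.gcd s (Nat.card (centralizer ({u} : Set G))) ∣
      Nat.card {y : G // Commute u y ∧ y ^ s = 1}) :
    s ∣ Nat.card (Σ u : {u : G // U u}, {y : G // Commute u.1 y ∧ y ^ s = 1}) := by
  classical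
  let Y : SubMulAction (ConjAct G) G :=
    { carrier := {u | U u}
      smul_mem' := fun c u hu => by rw [ConjAct.smul_def]; exact hU _ u hu }
  have : Finite Y := Subtype.finite
  have : Finite (MulAction.orbitRel.Quotient (ConjAct G) Y) := Quotient.finite _
  have := Fintype.ofFinite (MulAction.orbitRel.Quotient (ConjAct G) Y)
  change s ∣ Nat.card (Σ u : Y, {y : G // Commute u.1 y ∧ y ^ s = 1})
  have := Fintype.ofFinite Y
  have : ∀ ω : MulAction.orbitRel.Quotient (ConjAct G) Y,
      Fintype (MulAction.orbit (ConjAct G) (Quotient.out ω)) := fun ω => Fintype.ofFinite _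
  rw [Nat.card_sigma, ← Equiv.sum_comp (MulAction.selfEquivSigmaOrbits (ConjAct G) Y).symm,
    Fintype.sum_sigma]
  refine Finset.dvd_sum fun ω _ => ?_
  set u : Y := Quotient.out ω with hu
  let B : ℕ := Nat.card {y : G // Commute u.1 y ∧ y ^ s = 1}
  have hconst : ∀ v : MulAction.orbit (ConjAct G) u,
      Nat.card {y : G // Commute (v.1 : Y).1 y ∧ y ^ s = 1} = B := by
    rintro ⟨v, c, rfl⟩
    refine Nat.card_congr ((MulAut.conj (ConjAct.ofConjAct c)).toEquiv.subtypeEquiv fun y => ?_).symm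
    show Commute u.1 y ∧ y ^ s = 1 ↔ Commute (c • u : Y).1 _ ∧ _
    rw [SubMulAction.val_smul, ConjAct.smul_def, MulEquiv.toEquiv_eq_coe, EquivLike.coe_coe,
      MulAut.conj_apply, Commute.conj_iff, conj_pow, mul_inv_eq_one, mul_eq_left]
  rw [Finset.sum_eq_card_nsmul (b := B) (fun v _ => ?_), smul_eq_mul,
    Finset.card_univ, ← Nat.card_eq_fintype_card]
  swap
  · exact hconst v
  have horb : Nat.card (MulAction.orbit (ConjAct G) u) * Nat.card (centralizer ({u.1} : Set G)) =
      Nat.card G := by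
    have hst : MulAction.stabilizer (ConjAct G) u = MulAction.stabilizer (ConjAct G) (u.1 : G) := by
      ext c
      simp [MulAction.mem_stabilizer_iff, Subtype.ext_iff]
    rw [Nat.card_coe_set_eq, ← MulAction.index_stabilizer, hst]
    have hcent : Nat.card (centralizer ({u.1} : Set G)) =
        Nat.card (MulAction.stabilizer (ConjAct G) (u.1 : G)) := by
      refine Nat.card_congr (ConjAct.toConjAct.toEquiv.subtypeEquiv fun c => ?_)
      rw [mem_centralizer_singleton_iff, MulAction.mem_stabilizer_iff, ConjAct.smul_def]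
      simp [mul_inv_eq_iff_eq_mul]
    rw [hcent, mul_comm, card_mul_index]
    rfl
  refine Dvd.dvd.trans ?_ (mul_dvd_mul_left _ (hC u.1 u.2))
  rw [← Nat.gcd_mul_left, horb]
  exact Nat.dvd_gcd (dvd_mul_left _ _) hs

/-- The fibre lemma: split `g` with `g ^ (M * s) = 1` into its parts. -/
theorem card_split (M s : ℕ) (hcop : M.Coprime s) (U : G → Prop) (hUM : ∀ u, U u → u ^ M = 1)
    (e : ℕ) (he1 : e ≡ 1 [MOD M]) (he0 : e ≡ 0 [MOD s]) :
    Nat.card {g : G // g ^ (M * s) = 1 ∧ U (g ^ e)} =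
      Nat.card (Σ u : {u : G // U u}, {y : G // Commute u.1 y ∧ y ^ s = 1}) := by
  obtain ⟨k, hk⟩ := Nat.modEq_zero_iff_dvd.mp he0
  have hpe : ∀ u y : G, Commute u y → u ^ M = 1 → y ^ s = 1 → (u * y) ^ e = u := by
    intro u y hc hu hy
    rw [hc.mul_pow, hk, pow_mul y, hy, one_pow, mul_one, ← hk]
    conv_rhs => rw [← pow_one u]
    exact pow_eq_pow_iff_modEq.mpr (he1.of_dvd (orderOf_dvd_of_pow_eq_one hu))
  refine Nat.card_congr
    { toFun := fun g => ⟨⟨g.1 ^ e, g.2.2⟩, (g.1 ^ e)⁻¹ * g.1,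
        (Commute.mul_right (Commute.refl _).inv_right (Commute.pow_self g.1 e)), ?_⟩
      invFun := fun x => ⟨x.1.1 * x.2.1, ?_, ?_⟩
      left_inv := fun g => Subtype.ext (by simp)
      right_inv := fun x => ?_ }
  · rw [((Commute.pow_self g.1 e).inv_left).mul_pow, inv_pow, ← pow_mul, inv_mul_eq_one]
    exact pow_eq_pow_iff_modEq.mpr ((by simpa using he1.mul_right' s :
      e * s ≡ s [MOD M * s]).of_dvd (orderOf_dvd_of_pow_eq_one g.2.1))
  · rw [x.2.2.1.mul_pow, pow_mul, hUM _ x.1.2, one_pow, one_mul, mul_comm, pow_mul, x.2.2.2, one_pow]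
  · rw [hpe _ _ x.2.2.1 (hUM _ x.1.2) x.2.2.2]; exact x.1.2
  · obtain ⟨⟨u, hu⟩, y, hc, hy⟩ := x
    have h := hpe u y hc (hUM u hu) hy
    refine Sigma.subtype_ext (Subtype.ext h) ?_
    simp [h]

/-- Solutions of `y ^ s = 1` in `C(u)` and in `C(u)/⟨u⟩`, for `s` prime to the order of `u`. -/
theorem card_centralizer_torsion {u : G} {s : ℕ} (hcop : (orderOf u).Coprime s)
    [((zpowers u).subgroupOf (centralizer ({u} : Set G))).Normal] :
    Nat.card {y : G // Commute u y ∧ y ^ s = 1} =
      Nat.card {z : centralizer ({u} : Set G) ⧸ (zpowers u).subgroupOf (centralizer ({u} : Set G)) //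
        z ^ s = 1} := by
  set C := centralizer ({u} : Set G)
  set N := (zpowers u).subgroupOf C
  have hNM : ∀ c : C, c ∈ N → (c : G) ^ orderOf u = 1 := by
    intro c hc
    obtain ⟨k, hk⟩ := mem_zpowers_iff.mp (mem_subgroupOf.mp hc)
    rw [← hk, ← zpow_natCast, ← zpow_mul, mul_comm, zpow_mul, zpow_natCast, pow_orderOf_eq_one, one_zpow]
  let f : {y : G // Commute u y ∧ y ^ s = 1} → {z : C ⧸ N // z ^ s = 1} := fun y =>
    ⟨QuotientGroup.mk' N ⟨y.1, mem_centralizer_singleton_iff.mpr y.2.1.symm⟩, by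
      rw [← map_pow, show (⟨y.1, _⟩ : C) ^ s = 1 from Subtype.ext (by simpa using y.2.2), map_one]⟩
  refine Nat.card_eq_of_bijective f ⟨?_, ?_⟩
  · rintro ⟨y, hy, hys⟩ ⟨y', hy', hys'⟩ he
    have h1 := QuotientGroup.eq.mp (congrArg Subtype.val he)
    have h2 := hNM _ h1
    obtain ⟨k, hk⟩ := mem_zpowers_iff.mp (mem_subgroupOf.mp h1)
    simp only [coe_mul, coe_inv] at h2 hk
    have hc : Commute y (y⁻¹ * y') := by rw [← hk]; exact (hy.symm.zpow_right k)
    have h3 : (y⁻¹ * y') ^ s = 1 := by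
      have h4 := hc.mul_pow s
      rw [mul_inv_cancel_left, hys', hys, one_mul] at h4
      exact h4.symm
    have h5 : y⁻¹ * y' = 1 := by
      rw [← orderOf_eq_one_iff]
      exact Nat.eq_one_of_dvd_coprimes hcop (orderOf_dvd_of_pow_eq_one h2) (orderOf_dvd_of_pow_eq_one h3)
    exact Subtype.ext (inv_mul_eq_one.mp h5)
  · rintro ⟨z, hz⟩
    obtain ⟨c, rfl⟩ := QuotientGroup.mk'_surjective N z
    obtain ⟨f', hf1, hf0⟩ := Nat.chineseRemainder hcop.symm 1 0
    obtain ⟨k, hk⟩ := Nat.modEq_zero_iff_dvd.mp hf0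
    have hcs : c ^ s ∈ N := by
      rw [← map_pow] at hz
      exact (QuotientGroup.eq_one_iff _).mp hz
    have h2 : ((c : G) ^ s) ^ orderOf u = 1 := by simpa using hNM _ hcs
    refine ⟨⟨(c : G) ^ f', Commute.pow_right (show Commute u c from (mem_centralizer_singleton_iff.mp c.2).symm) _, ?_⟩, Subtype.ext ?_⟩
    · rw [← pow_mul, hk, show orderOf u * k * s = s * orderOf u * k by ring, pow_mul, pow_mul, h2, one_pow]
    · show QuotientGroup.mk' N (⟨(c : G) ^ f', _⟩ : C) = QuotientGroup.mk' N c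
      rw [show (⟨(c : G) ^ f', _⟩ : C) = c ^ f' from Subtype.ext (by simp), map_pow]
      conv_rhs => rw [← pow_one (QuotientGroup.mk' N c)]
      exact pow_eq_pow_iff_modEq.mpr (hf1.of_dvd (orderOf_dvd_of_pow_eq_one hz))

theorem card_orderOf_fiber (D : Subgroup G) :
    Nat.card {x : D // orderOf x = Nat.card D} = Nat.card {x : G // zpowers x = D ∧ x ∈ D ∧ orderOf x = Nat.card D} := by
  refine Nat.card_congr
    { toFun := fun x => ⟨x.1.1, ?_, x.1.2, (Subgroup.orderOf_coe x.1).trans x.2⟩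
      invFun := fun x => ⟨⟨x.1, x.2.2.1⟩, by rw [Subgroup.orderOf_mk]; exact x.2.2.2⟩
      left_inv := fun _ => rfl
      right_inv := fun _ => rfl }
  have h : zpowers x.1 = ⊤ := eq_top_of_card_eq _ (by rw [Nat.card_zpowers, x.2])
  have := congrArg (Subgroup.map D.subtype) h
  rwa [MonoidHom.map_zpowers, ← MonoidHom.range_eq_map, range_subtype] at this

/-- A union of "generator classes" whose orders are multiples of `d` has size divisible by `φ d`. -/
theorem totient_dvd_card (S : G → Prop) (hS : ∀ x y, zpowers x = zpowers y → S x → S y) (d : ℕ)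
    (hd : ∀ x, S x → d ∣ orderOf x) : Nat.totient d ∣ Nat.card {x : G // S x} := by
  classical
  let f : {x : G // S x} → Subgroup G := fun x => zpowers x.1
  have := Fintype.ofFinite (Subgroup G)
  rw [← Nat.card_congr (Equiv.sigmaFiberEquiv f), Nat.card_sigma]
  refine Finset.dvd_sum fun D _ => ?_
  rcases isEmpty_or_nonempty {x // f x = D} with he | ⟨⟨x₀, hx₀⟩, hf⟩
  · simp
  change zpowers x₀ = D at hf
  subst hf
  have hcard : Nat.card {x // f x = zpowers x₀} = Nat.totient (Nat.card (zpowers x₀)) := by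
    have := Fintype.ofFinite (zpowers x₀)
    have h1 : Nat.card {x : zpowers x₀ // orderOf x = Nat.card (zpowers x₀)} =
        Nat.totient (Nat.card (zpowers x₀)) := by
      rw [Nat.card_eq_fintype_card, Fintype.card_subtype,
        IsCyclic.card_orderOf_eq_totient (by rw [Nat.card_eq_fintype_card])]
    rw [← h1, card_orderOf_fiber]
    refine Nat.card_congr
      { toFun := fun x => ⟨x.1.1, x.2, (SetLike.ext_iff.mp (show zpowers x.1.1 = zpowers x₀ from x.2) x.1.1).mp (mem_zpowers x.1.1),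
          (Nat.card_zpowers x.1.1).symm.trans (congrArg (fun D : Subgroup G => Nat.card D) x.2)⟩
        invFun := fun x => ⟨⟨x.1, hS x₀ x.1 x.2.1.symm hx₀⟩, x.2.1⟩
        left_inv := fun _ => rfl
        right_inv := fun _ => rfl }
  rw [hcard, Nat.card_zpowers]
  exact Nat.totient_dvd_of_dvd (hd x₀ hx₀)

theorem frobenius_aux : ∀ (n : ℕ) (G : Type u) [Group G] [Finite G], Nat.card G = n →
    ∀ m : ℕ, m ∣ n → m ∣ Nat.card {g : G // g ^ m = 1} := by
  intro n
  induction n using Nat.strong_induction_on with | _ n ih =>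
  intro G _ _ hn
  suffices ∀ k m : ℕ, m ∣ n → n / m = k → m ∣ Nat.card {g : G // g ^ m = 1} from
    fun m hm => this _ m hm rfl
  intro k
  induction k using Nat.strong_induction_on with | _ k ihk =>
  intro m hm hk
  have hn0 : 0 < n := hn ▸ Nat.card_pos
  have hm0 : 0 < m := Nat.pos_of_dvd_of_pos hm hn0
  rcases eq_or_ne k 1 with rfl | hk1
  · have hmn : m = n := by
      have := Nat.div_mul_cancel hm
      rw [hk, one_mul] at this
      exact this
    have e : Nat.card {g : G // g ^ m = 1} = m := by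
      rw [hmn, ← hn]
      exact Nat.card_congr (Equiv.subtypeUnivEquiv fun g => pow_card_eq_one')
    rw [e]
  obtain ⟨p, hp, hpk⟩ := Nat.exists_prime_and_dvd hk1
  have hmp : m * p ∣ n := by
    rw [← Nat.div_mul_cancel hm, hk, mul_comm]
    exact mul_dvd_mul_right hpk m
  have hlt : n / (m * p) < k := by
    obtain ⟨c, hc⟩ := hmp
    have h1 : n / (m * p) = c := by rw [hc, Nat.mul_div_cancel_left _ (Nat.mul_pos hm0 hp.pos)]
    have h2 : n / m = p * c := by rw [hc, mul_assoc, Nat.mul_div_cancel_left _ hm0]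
    have hc0 : 0 < c := Nat.pos_of_ne_zero fun e => hn0.ne' (by rw [hc, e, mul_zero])
    rw [h1, ← hk, h2]
    exact lt_mul_of_one_lt_left hc0 hp.one_lt
  have hA := (dvd_mul_right m p).trans (ihk _ hlt (m * p) hmp rfl)
  classical
  have hsplit : Nat.card {g : G // g ^ (m * p) = 1} =
      Nat.card {g : G // g ^ m = 1} + Nat.card {g : G // g ^ (m * p) = 1 ∧ ¬ g ^ m = 1} := by
    rw [← Nat.card_sum]
    refine Nat.card_congr ((Equiv.sumCompl (fun g : {g : G // g ^ (m * p) = 1} => g.1 ^ m = 1)).symm.trans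
      (Equiv.sumCongr (Equiv.subtypeSubtypeEquivSubtype (p := fun g : G => g ^ (m * p) = 1) (q := fun g : G => g ^ m = 1) fun {g} hg => ?_)
        (Equiv.subtypeSubtypeEquivSubtypeInter _ (fun g : G => ¬ g ^ m = 1))))
    rw [pow_mul, hg, one_pow]
  rw [hsplit] at hA
  refine (Nat.dvd_add_left ?_).mp hA
  obtain ⟨a, s, hps, hms⟩ := Nat.exists_eq_pow_mul_and_not_dvd hm0.ne' p hp.ne_one
  have hcop : (p ^ a).Coprime s := Nat.Coprime.pow_left a (hp.coprime_iff_not_dvd.mpr hps)
  have hcop' : (p ^ (a + 1)).Coprime s := Nat.Coprime.pow_left _ (hp.coprime_iff_not_dvd.mpr hps)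
  rw [show m * p = p ^ (a + 1) * s by rw [hms, pow_succ]; ring, hms]
  refine hcop.mul_dvd_of_dvd_of_dvd ?_ ?_
  · refine (?_ : p ^ a ∣ Nat.totient (p ^ (a + 1))).trans
      (totient_dvd_card _ (fun x y hxy hx => ?_) _ fun x hx => ?_)
    · rw [Nat.totient_prime_pow hp (Nat.succ_pos a), Nat.succ_sub_one]
      exact dvd_mul_right _ _
    · have ho : orderOf x = orderOf y := by rw [← Nat.card_zpowers, hxy, Nat.card_zpowers]
      rwa [← orderOf_dvd_iff_pow_eq_one, ← orderOf_dvd_iff_pow_eq_one, ← ho,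
        orderOf_dvd_iff_pow_eq_one, orderOf_dvd_iff_pow_eq_one]
    · obtain ⟨hx1, hx2⟩ := hx
      rw [← orderOf_dvd_iff_pow_eq_one] at hx1 hx2
      obtain ⟨d₁, d₂, hd₁, hd₂, hd⟩ := exists_dvd_and_dvd_of_dvd_mul hx1
      obtain ⟨j, hj, rfl⟩ := (Nat.dvd_prime_pow hp).mp hd₁
      rcases Nat.lt_or_eq_of_le hj with hj' | rfl
      · exact absurd (hd ▸ Nat.mul_dvd_mul (Nat.pow_dvd_pow p (Nat.le_of_lt_succ hj')) hd₂) hx2
      · exact hd ▸ dvd_mul_right _ _
  · obtain ⟨e, he1, he0⟩ := Nat.chineseRemainder hcop' 1 0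
    have hset : ∀ g : G, g ^ (p ^ (a + 1) * s) = 1 →
        (¬ g ^ (p ^ a * s) = 1 ↔ orderOf (g ^ e) = p ^ (a + 1)) := by
      intro g hg
      have hu : (g ^ e) ^ p ^ (a + 1) = 1 := by
        obtain ⟨t, ht⟩ := Nat.modEq_zero_iff_dvd.mp he0
        rw [← pow_mul, ht, show s * t * p ^ (a + 1) = p ^ (a + 1) * s * t by ring, pow_mul, hg, one_pow]
      have key : g ^ (p ^ a * s) = (g ^ e) ^ (p ^ a * s) := by
        rw [← pow_mul]
        refine pow_eq_pow_iff_modEq.mpr (Nat.ModEq.of_dvd (orderOf_dvd_of_pow_eq_one hg) ?_)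
        have h := (he1.mul_right' s).mul_right (p ^ a)
        rw [one_mul] at h
        rw [show p ^ a * s = s * p ^ a by ring, show e * (s * p ^ a) = e * s * p ^ a by ring]
        exact h.symm
      rw [key, ← orderOf_dvd_iff_pow_eq_one]
      obtain ⟨j, hj, hje⟩ := (Nat.dvd_prime_pow hp).mp (orderOf_dvd_of_pow_eq_one hu)
      rw [hje]
      constructor
      · intro h
        rcases Nat.lt_or_eq_of_le hj with hj' | rfl
        · exact absurd (dvd_mul_of_dvd_left (Nat.pow_dvd_pow p (Nat.le_of_lt_succ hj')) s) h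
        · rfl
      · intro h hd
        rw [h, hcop'.dvd_mul_right, Nat.pow_dvd_pow_iff_le_right hp.one_lt] at hd
        omega
    rw [Nat.card_congr (Equiv.subtypeEquivRight fun g => and_congr_right fun hg => hset g hg),
      card_split (p ^ (a + 1)) s hcop' (fun u => orderOf u = p ^ (a + 1))
        (fun u hu => hu ▸ pow_orderOf_eq_one u) e he1 he0]
    have hsn : s ∣ n := (dvd_mul_left s _).trans (hms ▸ hm)
    refine dvd_card_sigma _ (fun c u hu => ?_) s (hn ▸ hsn) fun u hu => ?_
    · rw [← hu]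
      exact orderOf_injective (MulAut.conj c).toMonoidHom (MulAut.conj c).injective u
    · have hle : zpowers u ≤ centralizer ({u} : Set G) :=
        zpowers_le.mpr (mem_centralizer_singleton_iff.mpr rfl)
      have : ((zpowers u).subgroupOf (centralizer ({u} : Set G))).Normal := by
        refine ⟨fun x hx c => ?_⟩
        obtain ⟨i, hi⟩ := mem_zpowers_iff.mp (mem_subgroupOf.mp hx)
        have hc : Commute (c : G) u := mem_centralizer_singleton_iff.mp c.2
        rw [mem_subgroupOf, coe_mul, coe_mul, coe_inv, ← hi, (hc.zpow_right i).eq, mul_inv_cancel_right]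
        exact zpow_mem (mem_zpowers u) i
      have hcu : (orderOf u).Coprime s := by rw [hu]; exact hcop'
      rw [card_centralizer_torsion hcu]
      set C := centralizer ({u} : Set G)
      set N := (zpowers u).subgroupOf C
      have hNc : Nat.card N = p ^ (a + 1) := by
        rw [Nat.card_congr (subgroupOfEquivOfLe hle).toEquiv, Nat.card_zpowers, hu]
      have hQ : Nat.card C = Nat.card (C ⧸ N) * p ^ (a + 1) := by
        rw [card_eq_card_quotient_mul_card_subgroup N, hNc]
      have hQlt : Nat.card (C ⧸ N) < n := by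
        have h1 : Nat.card (C ⧸ N) * 1 < Nat.card (C ⧸ N) * p ^ (a + 1) :=
          Nat.mul_lt_mul_of_pos_left (Nat.one_lt_pow (by omega) hp.one_lt) Nat.card_pos
        rw [mul_one, ← hQ] at h1
        exact h1.trans_le (hn ▸ Nat.card_le_card_of_injective Subtype.val Subtype.val_injective)
      have h := ih _ hQlt (C ⧸ N) rfl (Nat.gcd s (Nat.card (C ⧸ N))) (Nat.gcd_dvd_right _ _)
      rw [hQ, Nat.Coprime.gcd_mul_right_cancel_right _ hcop']
      refine h.trans (dvd_of_eq (Nat.card_congr (Equiv.subtypeEquivRight fun z => ?_)))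
      rw [← orderOf_dvd_iff_pow_eq_one, ← orderOf_dvd_iff_pow_eq_one, Nat.dvd_gcd_iff]
      exact and_iff_left (orderOf_dvd_natCard z)

/-- Frobenius: if `m` divides the group order, it divides the number of solutions of `g ^ m = 1`. -/
theorem frobenius {m : ℕ} (hm : m ∣ Nat.card G) : m ∣ Nat.card {g : G // g ^ m = 1} :=
  frobenius_aux _ G rfl m hm

theorem frobenius_gcd (s : ℕ) : Nat.gcd s (Nat.card G) ∣ Nat.card {g : G // g ^ s = 1} := by
  refine (frobenius (Nat.gcd_dvd_right s (Nat.card G))).trans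
    (dvd_of_eq (Nat.card_congr (Equiv.subtypeEquivRight fun z => ?_)))
  rw [← orderOf_dvd_iff_pow_eq_one, ← orderOf_dvd_iff_pow_eq_one, Nat.dvd_gcd_iff]
  exact and_iff_left (orderOf_dvd_natCard z)

end Cfsg.Agent.FrobeniusCount
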