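import Mathlib
import Cfsg.Agent.PGroup.Basic
import Cfsg.Agent.PGroup.Extraspecial

/-! p-groups with an abelian or extraspecial subgroup of index p. -/

namespace Cfsg.Agent.IndexP

variable {S : Type*} [Group S] [Finite S] {p : ℕ} [Fact p.Prime]

theorem normal_of_index (hS : IsPGroup p S) {A : Subgroup S} (h : A.index = p) : A.Normal := by
  refine Subgroup.normal_of_index_eq_minFac_card ?_
  obtain ⟨n, hn⟩ := IsPGroup.iff_card.mp hS
  have hd : A.index ∣ Nat.card S := A.index_dvd_card
  rw [h, hn] at hd
  rw [h, hn]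
  rcases Nat.eq_zero_or_pos n with rfl | hn0
  · exact absurd (Nat.dvd_one.mp (by simpa using hd)) (Fact.out : p.Prime).one_lt.ne'
  · rw [(Fact.out : p.Prime).pow_minFac hn0.ne']

theorem eq_top_of_lt (hS : IsPGroup p S) {A B : Subgroup S} (h : A.index = p) (hle : A ≤ B)
    (hne : ¬ B ≤ A) : B = ⊤ := by
  have hd := Subgroup.index_dvd_of_le hle
  rw [h, Nat.dvd_prime Fact.out] at hd
  rcases hd with hd | hd
  · exact Subgroup.index_eq_one.mp hd
  · exfalso
    apply hne
    have := Subgroup.relIndex_mul_index hle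
    rw [h, hd] at this
    have h1 : A.relIndex B = 1 := by
      nlinarith [(Fact.out : p.Prime).pos]
    exact Subgroup.relIndex_eq_one.mp h1

theorem isMulCommutative_of_index (hS : IsPGroup p S) {A : Subgroup S} [hA : IsMulCommutative A]
    (hAi : A.index = p) {z : S} (hz : z ∈ Subgroup.center S) (hzA : z ∉ A) : IsMulCommutative S := by
  have hsup : A ⊔ Subgroup.center S = ⊤ :=
    eq_top_of_lt hS hAi le_sup_left fun h => hzA (h (Subgroup.mem_sup_right hz))
  refine ⟨⟨fun a b => ?_⟩⟩
  have ha : a ∈ A ⊔ Subgroup.center S := hsup ▸ Subgroup.mem_top a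
  have hb : b ∈ A ⊔ Subgroup.center S := hsup ▸ Subgroup.mem_top b
  rw [Subgroup.mem_sup_of_normal_right] at ha hb
  obtain ⟨x, hx, u, hu, rfl⟩ := ha
  obtain ⟨y, hy, v, hv, rfl⟩ := hb
  have hxy : x * y = y * x := congrArg Subtype.val (hA.is_comm.comm ⟨x, hx⟩ ⟨y, hy⟩)
  have hu' := Subgroup.mem_center_iff.mp hu
  have hv' := Subgroup.mem_center_iff.mp hv
  calc x * u * (y * v) = x * (u * y) * v := by group
    _ = x * (y * u) * v := by rw [hu' y]
    _ = (x * y) * (u * v) := by group
    _ = (y * x) * (v * u) := by rw [hxy, hv' u]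
    _ = y * (x * v) * u := by group
    _ = y * (v * x) * u := by rw [hv' x]
    _ = y * v * (x * u) := by group

theorem center_le (hS : IsPGroup p S) (hna : ¬ IsMulCommutative S) {A : Subgroup S}
    [IsMulCommutative A] (hAi : A.index = p) : Subgroup.center S ≤ A := fun _ hz => by
  by_contra hzA
  exact hna (isMulCommutative_of_index hS hAi hz hzA)

theorem index_center_eq (hS : IsPGroup p S) (hna : ¬ IsMulCommutative S) (A : Subgroup S)
    [hA : IsMulCommutative A] (hAi : A.index = p) :
    (Subgroup.center S).index = p * Nat.card (commutator S) := by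
  haveI := normal_of_index hS hAi
  obtain ⟨t, ht⟩ : ∃ t, t ∉ A := by
    by_contra h
    push Not at h
    rw [(Subgroup.eq_top_iff' A).mpr h, Subgroup.index_top] at hAi
    exact (Fact.out : p.Prime).one_lt.ne hAi
  have hcomm : ∀ x ∈ A, ∀ y ∈ A, x * y = y * x := fun x hx y hy =>
    congrArg Subtype.val (hA.is_comm.comm ⟨x, hx⟩ ⟨y, hy⟩)
  have hmem : ∀ a ∈ A, t * a * t⁻¹ * a⁻¹ ∈ A := fun a ha =>
    mul_mem (‹A.Normal›.conj_mem a ha t) (inv_mem ha)
  let φ : A →* S :=
    { toFun := fun a => t * (a : S) * t⁻¹ * (a : S)⁻¹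
      map_one' := by simp
      map_mul' := fun a b => by
        have h1 := hcomm (t * b * t⁻¹ * (b : S)⁻¹) (hmem b b.2) (a : S)⁻¹ (inv_mem a.2)
        simp only [Subgroup.coe_mul]
        calc t * (a * b) * t⁻¹ * ((a : S) * b)⁻¹
            = t * a * t⁻¹ * ((t * b * t⁻¹ * (b : S)⁻¹) * (a : S)⁻¹) := by group
          _ = (t * a * t⁻¹ * (a : S)⁻¹) * (t * b * t⁻¹ * (b : S)⁻¹) := by rw [h1]; group }
  have hgen : ∀ g : S, g ∈ A ⊔ Subgroup.zpowers t := by
    intro g
    rw [eq_top_of_lt hS hAi le_sup_left fun h => ht (h (Subgroup.mem_sup_right (Subgroup.mem_zpowers t)))]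
    exact Subgroup.mem_top g
  have hφapply : ∀ a : A, φ a = t * (a : S) * t⁻¹ * (a : S)⁻¹ := fun a => rfl
  have hker : φ.ker = (Subgroup.center S).subgroupOf A := by
    ext a
    rw [MonoidHom.mem_ker, Subgroup.mem_subgroupOf, hφapply, mul_inv_eq_one]
    constructor
    · intro h
      rw [Subgroup.mem_center_iff]
      intro g
      have hle : A ⊔ Subgroup.zpowers t ≤ Subgroup.centralizer ({(a : S)} : Set S) := by
        refine sup_le (fun x hx => ?_) (Subgroup.zpowers_le.mpr ?_)
        · rw [Subgroup.mem_centralizer_singleton_iff]; exact hcomm x hx a a.2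
        · rw [Subgroup.mem_centralizer_singleton_iff]; exact mul_inv_eq_iff_eq_mul.mp h
      exact Subgroup.mem_centralizer_singleton_iff.mp (hle (hgen g))
    · intro h
      rw [Subgroup.mem_center_iff.mp h t, mul_inv_cancel_right]
  have hrange : φ.range = commutator S := by
    have hn : φ.range.Normal := by
      rw [← Subgroup.normalizer_eq_top_iff, eq_top_iff]
      suffices h : A ⊔ Subgroup.zpowers t ≤ Subgroup.normalizer (φ.range : Set S) from
        fun g _ => h (hgen g)
      refine sup_le (fun x hx => ?_) (Subgroup.zpowers_le.mpr ?_)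
      · refine Subgroup.centralizer_le_normalizer _ ?_
        rintro _ ⟨a, rfl⟩
        exact hcomm _ (hmem a a.2) x hx
      · rw [Subgroup.mem_normalizer_iff]
        intro y
        constructor
        · rintro ⟨a, rfl⟩
          refine ⟨⟨t * a * t⁻¹, ‹A.Normal›.conj_mem _ a.2 t⟩, ?_⟩
          rw [hφapply, hφapply]; group
        · rintro ⟨a, ha⟩
          have hmem' : t⁻¹ * (a : S) * t ∈ A := by simpa using ‹A.Normal›.conj_mem _ a.2 t⁻¹
          refine ⟨⟨t⁻¹ * a * t, hmem'⟩, ?_⟩
          rw [hφapply] at ha ⊢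
          have : y = t⁻¹ * (t * (a : S) * t⁻¹ * (a : S)⁻¹) * t := by rw [ha]; group
          rw [this]; group
    refine le_antisymm ?_ ?_
    · rintro _ ⟨a, rfl⟩
      rw [hφapply, ← commutatorElement_def]
      exact Subgroup.commutator_mem_commutator (Subgroup.mem_top _) (Subgroup.mem_top _)
    · haveI := hn
      rw [← Subgroup.Normal.quotient_commutative_iff_commutator_le]
      set f := QuotientGroup.mk' φ.range with hf
      have hAt : ∀ a ∈ A, f a * f t = f t * f a := by
        intro a ha
        have hm : f (t * a * t⁻¹ * a⁻¹) = 1 := (QuotientGroup.eq_one_iff _).mpr ⟨⟨a, ha⟩, rfl⟩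
        rw [map_mul, map_mul, map_mul, map_inv, map_inv, mul_inv_eq_one] at hm
        exact (mul_inv_eq_iff_eq_mul.mp hm).symm
      have h1 : ∀ g : S, ∀ a ∈ A, f g * f a = f a * f g := by
        intro g a ha
        have hle : A ⊔ Subgroup.zpowers t ≤ (Subgroup.centralizer ({f a} : Set _)).comap f := by
          refine sup_le (fun x hx => ?_) (Subgroup.zpowers_le.mpr ?_)
          · rw [Subgroup.mem_comap, Subgroup.mem_centralizer_singleton_iff, ← map_mul,
              hcomm x hx a ha, map_mul]
          · rw [Subgroup.mem_comap, Subgroup.mem_centralizer_singleton_iff]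
            exact (hAt a ha).symm
        exact Subgroup.mem_centralizer_singleton_iff.mp (hle (hgen g))
      refine ⟨⟨fun x y => ?_⟩⟩
      obtain ⟨g, rfl⟩ := QuotientGroup.mk'_surjective φ.range x
      obtain ⟨h, rfl⟩ := QuotientGroup.mk'_surjective φ.range y
      have hle : A ⊔ Subgroup.zpowers t ≤ (Subgroup.centralizer ({f g} : Set _)).comap f := by
        refine sup_le (fun x hx => ?_) (Subgroup.zpowers_le.mpr ?_)
        · rw [Subgroup.mem_comap, Subgroup.mem_centralizer_singleton_iff]
          exact (h1 g x hx).symm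
        · have hle' : A ⊔ Subgroup.zpowers t ≤ (Subgroup.centralizer ({f t} : Set _)).comap f := by
            refine sup_le (fun x hx => ?_) (Subgroup.zpowers_le.mpr ?_)
            · rw [Subgroup.mem_comap, Subgroup.mem_centralizer_singleton_iff]; exact hAt x hx
            · rw [Subgroup.mem_comap, Subgroup.mem_centralizer_singleton_iff]
          rw [Subgroup.mem_comap, Subgroup.mem_centralizer_singleton_iff]
          exact (Subgroup.mem_centralizer_singleton_iff.mp (hle' (hgen g))).symm
      exact (Subgroup.mem_centralizer_singleton_iff.mp (hle (hgen h))).symm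
  have hZA := center_le hS hna hAi (A := A)
  have h3 := Subgroup.index_ker φ
  rw [hker, hrange] at h3
  rw [← Subgroup.relIndex_mul_index hZA, hAi, ← h3, mul_comm]
  rfl

/-- In an elementary abelian group of order `p ^ 2` there are `p + 1` subgroups of order `p`. -/
theorem natCard_subgroups_card_eq {V : Type*} [Group V] [Finite V] (hV : Nat.card V = p ^ 2)
    (hexp : ∀ v : V, v ^ p = 1) : Nat.card {L : Subgroup V // Nat.card L = p} = p + 1 := by
  classical
  have hp : p.Prime := Fact.out
  have hord : ∀ v : V, v ≠ 1 → Nat.card (Subgroup.zpowers v) = p := fun v hv => by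
    rw [Nat.card_zpowers, orderOf_eq_prime (hexp v) hv]
  let f : {v : V // v ≠ 1} → {L : Subgroup V // Nat.card L = p} :=
    fun v => ⟨Subgroup.zpowers v.1, hord v.1 v.2⟩
  have hfib : ∀ L, Nat.card {v // f v = L} = p - 1 := by
    intro L
    have heq : Nat.card {v // f v = L} = Nat.card {x : L.1 // x ≠ 1} := by
      refine Nat.card_congr
        { toFun := fun v => ⟨⟨v.1.1, by
              have h : Subgroup.zpowers v.1.1 = L.1 := congrArg Subtype.val v.2
              rw [← h]; exact Subgroup.mem_zpowers _⟩, fun h => v.1.2 (congrArg Subtype.val h)⟩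
          invFun := fun x => ⟨⟨(x.1 : V), fun h => x.2 (Subtype.ext h)⟩, Subtype.ext (by
            refine Subgroup.eq_of_le_of_card_ge (Subgroup.zpowers_le.mpr x.1.2) ?_
            rw [L.2]
            exact (hord _ (fun h => x.2 (Subtype.ext h))).ge)⟩
          left_inv := fun v => rfl
          right_inv := fun x => rfl }
    rw [heq]
    haveI : Fintype L.1 := Fintype.ofFinite _
    rw [Nat.card_eq_fintype_card, Fintype.card_subtype_compl, Fintype.card_subtype_eq,
      ← Nat.card_eq_fintype_card, L.2]
  have htot : Nat.card {v : V // v ≠ 1} = p ^ 2 - 1 := by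
    haveI : Fintype V := Fintype.ofFinite _
    rw [Nat.card_eq_fintype_card, Fintype.card_subtype_compl, Fintype.card_subtype_eq,
      ← Nat.card_eq_fintype_card, hV]
  haveI : Fintype {L : Subgroup V // Nat.card L = p} := Fintype.ofFinite _
  have hs : Nat.card {v : V // v ≠ 1} = Nat.card {L : Subgroup V // Nat.card L = p} * (p - 1) := by
    rw [← Nat.card_congr (Equiv.sigmaFiberEquiv f), Nat.card_sigma, Finset.sum_congr rfl fun L _ => hfib L,
      Finset.sum_const, Finset.card_univ, smul_eq_mul, Nat.card_eq_fintype_card]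
  rw [htot] at hs
  refine Nat.eq_of_mul_eq_mul_right (show 0 < p - 1 by have := hp.two_le; omega) ?_
  rw [← hs]
  obtain ⟨k, rfl⟩ := Nat.exists_eq_add_of_le hp.one_le
  simp only [Nat.add_sub_cancel_left]
  rw [show (1 + k) ^ 2 = 1 + (1 + k + 1) * k by ring, Nat.add_sub_cancel_left]

theorem card_lt_card {T : Type*} [Group T] [Finite T] {A B : Subgroup T} (h : A < B) :
    Nat.card A < Nat.card B := by
  by_contra hge
  exact h.ne (Subgroup.eq_of_le_of_card_ge h.le (by omega))

theorem normal_card_center (hS : IsPGroup p S) (Q : Subgroup S) (hQ : Cfsg.IsExtraspecial p ↥Q)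
    (hQi : Q.index = p) : (Subgroup.center ↥Q).map Q.subtype ≤ Subgroup.center S := by
  haveI := normal_of_index hS hQi
  refine PGroup.le_center_of_card_eq hS ?_
  rw [Subgroup.card_map_of_injective Q.subtype_injective, hQ.2]

end Cfsg.Agent.IndexP
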