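/- Soft subgroups (Héthelyi): an abelian self-centralizing subgroup `E` of a finite p-group with
`|N(E) : E| = p` has a normalizer tower with all steps of index `p`, whose `i`-th member has class `i + 1`. -/
import Mathlib

set_option autoImplicit false

open scoped commutatorElement Pointwise

namespace Cfsg.Agent.Soft

variable {Q : Type*} [Group Q]

local notation "γ" => Subgroup.lowerCentralSeries (⊤ : Subgroup Q)

theorem eq_bot_of_lcs_le_succ [Group.IsNilpotent Q] {m : ℕ} (h : γ m ≤ γ (m + 1)) : γ m = ⊥ := by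
  have key : ∀ r, γ m ≤ γ (m + r) := by
    intro r
    induction r with
    | zero => exact le_rfl
    | succ r ih =>
      refine h.trans ?_
      rw [show m + (r + 1) = (m + r) + 1 from rfl, Subgroup.lowerCentralSeries_succ,
        Subgroup.lowerCentralSeries_succ]
      exact Subgroup.commutator_mono ih le_rfl
  obtain ⟨n, hn⟩ := Subgroup.nilpotent_iff_lowerCentralSeries.mp ‹Group.IsNilpotent Q›
  exact le_bot_iff.mp ((key n).trans (hn ▸ Subgroup.lowerCentralSeries_antitone _ (Nat.le_add_left n m)))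

/-- Elements of `E ⊔ γ (m+1)` commute with `E` modulo `γ (m+2)`. -/
theorem comm_mod {E : Subgroup Q} [IsMulCommutative E] {m : ℕ} {a e : Q} (ha : a ∈ E ⊔ γ (m + 1))
    (he : e ∈ E) : Commute (QuotientGroup.mk' (γ (m + 2)) a) (QuotientGroup.mk' (γ (m + 2)) e) := by
  obtain ⟨x, hx, c, hc, rfl⟩ := Subgroup.mem_sup_of_normal_right.mp ha
  rw [map_mul]
  refine Commute.mul_left ?_ ?_
  · exact (show Commute x e from congrArg Subtype.val (mul_comm' (⟨x, hx⟩ : E) ⟨e, he⟩)).map _
  · rw [← commutatorElement_eq_one_iff_commute, ← map_commutatorElement]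
    exact (QuotientGroup.eq_one_iff _).mpr (Subgroup.commutator_mem_commutator hc (Subgroup.mem_top e))

/-- If `a` commutes modulo `γ (m+2)` with generators, it commutes with everything. -/
theorem comm_all_of_generators {N : Subgroup Q} [N.Normal] {S T : Subgroup Q} (hST : S ⊔ T = ⊤) {a : Q}
    (hS : ∀ s ∈ S, Commute (QuotientGroup.mk' N a) (QuotientGroup.mk' N s))
    (hT : ∀ t ∈ T, Commute (QuotientGroup.mk' N a) (QuotientGroup.mk' N t)) (x : Q) :
    Commute (QuotientGroup.mk' N a) (QuotientGroup.mk' N x) := by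
  have h : S ⊔ T ≤ (Subgroup.centralizer {QuotientGroup.mk' N a}).comap (QuotientGroup.mk' N) :=
    sup_le (fun s hs => Subgroup.mem_centralizer_singleton_iff.mpr (hS s hs).symm)
      (fun t ht => Subgroup.mem_centralizer_singleton_iff.mpr (hT t ht).symm)
  have hx := h (hST ▸ Subgroup.mem_top x)
  exact (show Commute (QuotientGroup.mk' N x) (QuotientGroup.mk' N a) from
    Subgroup.mem_centralizer_singleton_iff.mp hx).symm

theorem map_lcs_top (α : MulAut Q) (m : ℕ) : (γ m).map α.toMonoidHom = γ m := by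
  rw [Subgroup.map_lowerCentralSeries, Subgroup.map_top_of_surjective α.toMonoidHom α.surjective]

theorem isMulCommutative_map (E : Subgroup Q) [IsMulCommutative E] (α : MulAut Q) :
    IsMulCommutative (E.map α.toMonoidHom) := by
  refine ⟨⟨?_⟩⟩
  rintro ⟨_, a, ha, rfl⟩ ⟨_, b, hb, rfl⟩
  apply Subtype.ext
  show α a * α b = α b * α a
  rw [← map_mul, ← map_mul, show a * b = b * a from congrArg Subtype.val (mul_comm' (⟨a, ha⟩ : E) ⟨b, hb⟩)]

/-- The key step of the upper bound. -/
theorem lcs_succ_eq_bot [Group.IsNilpotent Q] {E : Subgroup Q} [IsMulCommutative E] (α : MulAut Q)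
    (hgen : E ⊔ E.map α.toMonoidHom = ⊤) {m : ℕ} (h : γ m ≤ E ⊔ γ (m + 1)) : γ (m + 1) = ⊥ := by
  have := isMulCommutative_map E α
  have h' : γ m ≤ E.map α.toMonoidHom ⊔ γ (m + 1) := by
    have := Subgroup.map_mono (f := α.toMonoidHom) h
    rwa [Subgroup.map_sup, map_lcs_top, map_lcs_top] at this
  refine eq_bot_of_lcs_le_succ ?_
  conv_lhs => rw [Subgroup.lowerCentralSeries_succ]
  rw [Subgroup.commutator_le]
  intro l hl x _
  rw [← QuotientGroup.eq_one_iff, ← QuotientGroup.mk'_apply, map_commutatorElement,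
    commutatorElement_eq_one_iff_commute]
  exact comm_all_of_generators hgen (fun s hs => comm_mod (h hl) hs) (fun t ht => comm_mod (h' hl) ht) x

theorem lcs_le_normalizer_sup (E : Subgroup Q) (m : ℕ) :
    E ⊔ γ m ≤ Subgroup.normalizer ((E ⊔ γ (m + 1) : Subgroup Q) : Set Q) := by
  refine sup_le (le_trans le_sup_left Subgroup.le_normalizer) ?_
  intro l hl
  have key : ∀ l' ∈ γ m, ∀ x ∈ E ⊔ γ (m + 1), l' * x * l'⁻¹ ∈ E ⊔ γ (m + 1) := by
    intro l' hl' x hx
    rw [show l' * x * l'⁻¹ = ⁅l', x⁆ * x by group]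
    exact mul_mem (Subgroup.mem_sup_right (Subgroup.commutator_mem_commutator hl' (Subgroup.mem_top x))) hx
  rw [Subgroup.mem_normalizer_iff]
  intro x
  refine ⟨key l hl x, fun hx => ?_⟩
  have := key l⁻¹ (inv_mem hl) _ hx
  simpa [mul_assoc] using this

/-- In a nilpotent group the derived group does not help to generate. -/
theorem eq_top_of_sup_lcs_one [Finite Q] [Group.IsNilpotent Q] {H : Subgroup Q} (h : H ⊔ γ 1 = ⊤) :
    H = ⊤ := by
  by_contra hne
  obtain ⟨M, hM, hHM⟩ := (eq_top_or_exists_le_coatom H).resolve_left hne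
  have hMn : M.Normal := Subgroup.NormalizerCondition.normal_of_coatom M
    Group.normalizerCondition_of_isNilpotent hM
  refine hM.1 (top_le_iff.mp (h ▸ sup_le hHM ?_))
  -- the quotient by a coatom is commutative
  have hs : ∀ x y : Q ⧸ M, x * y = y * x := by
    intro x y
    by_contra hxy
    obtain ⟨a, rfl⟩ := QuotientGroup.mk'_surjective M x
    have hx1 : QuotientGroup.mk' M a ≠ 1 := by intro h1; apply hxy; rw [h1]; simp
    have haM : a ∉ M := fun h => hx1 ((QuotientGroup.eq_one_iff a).mpr h)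
    have htop : M ⊔ Subgroup.zpowers a = ⊤ :=
      hM.2 _ (lt_of_le_of_ne le_sup_left fun he => haM (he.symm ▸ Subgroup.mem_sup_right (Subgroup.mem_zpowers a)))
    obtain ⟨b, rfl⟩ := QuotientGroup.mk'_surjective M y
    obtain ⟨c, hc, z, ⟨k, rfl⟩, rfl⟩ := Subgroup.mem_sup_of_normal_left.mp (htop ▸ Subgroup.mem_top b)
    apply hxy
    rw [map_mul, map_zpow, show QuotientGroup.mk' M c = 1 from (QuotientGroup.eq_one_iff c).mpr hc, one_mul]
    exact (Commute.zpow_right (Commute.refl _) k).eq
  rw [Subgroup.lowerCentralSeries_succ, Subgroup.lowerCentralSeries_zero, Subgroup.commutator_le]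
  intro a _ b _
  rw [← QuotientGroup.eq_one_iff, ← QuotientGroup.mk'_apply, map_commutatorElement,
    commutatorElement_eq_one_iff_commute]
  exact hs _ _

/-- The standing hypothesis on the top group of a piece of the tower. -/
structure IsTowerTop (p : ℕ) (E : Subgroup Q) : Prop where
  comm : IsMulCommutative E
  cent : Subgroup.centralizer (E : Set Q) ≤ E
  step : ∀ H : Subgroup Q, E ≤ H → H ≠ ⊤ → H.relIndex (Subgroup.normalizer (H : Set Q)) = p

variable {p : ℕ} {E : Subgroup Q}

theorem IsTowerTop.not_commutative (h : IsTowerTop p E) (hne : E ≠ ⊤) : γ 1 ≠ ⊥ := by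
  intro h1
  refine hne (top_le_iff.mp (le_trans (show (⊤ : Subgroup Q) ≤ Subgroup.centralizer (E : Set Q) from fun x _ => ?_) h.cent))
  refine Subgroup.mem_centralizer_iff.mpr fun y _ => ?_
  have := Subgroup.commutator_mem_commutator (Subgroup.mem_top y) (Subgroup.mem_top x)
  rw [show ⁅(⊤ : Subgroup Q), (⊤ : Subgroup Q)⁆ = γ 1 from rfl, h1, Subgroup.mem_bot,
    commutatorElement_eq_one_iff_mul_comm] at this
  exact this

theorem IsTowerTop.index_max [Finite Q] [Group.IsNilpotent Q] (h : IsTowerTop p E) (hne : E ≠ ⊤) :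
    (E ⊔ γ 1).index = p := by
  have hproper : E ⊔ γ 1 ≠ ⊤ := fun he => hne (eq_top_of_sup_lcs_one he)
  have hn := lcs_le_normalizer_sup E 0
  rw [Subgroup.lowerCentralSeries_zero, sup_top_eq, top_le_iff] at hn
  have := h.step _ le_sup_left hproper
  rwa [hn, Subgroup.relIndex_top_right] at this

theorem eq_of_le_of_prime_index [Finite Q] {X Y : Subgroup Q} (hp : p.Prime) (hX : X.index = p) (hle : X ≤ Y)
    (hY : Y ≠ ⊤) : X = Y := by
  have h := Subgroup.relIndex_mul_index hle
  rw [hX] at h
  have hd : Y.index ∣ p := ⟨X.relIndex Y, by rw [← h, mul_comm]⟩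
  rcases (Nat.dvd_prime hp).mp hd with h1 | h1
  · exact absurd (Subgroup.index_eq_one.mp h1) hY
  · rw [h1] at h
    exact le_antisymm hle (Subgroup.relIndex_eq_one.mp ((mul_eq_right₀ hp.ne_zero).mp h))

/-- Two conjugates of `E` under different maximal members generate. -/
theorem IsTowerTop.sup_map_eq_top [Finite Q] [Group.IsNilpotent Q] (h : IsTowerTop p E) (hp : p.Prime)
    (hne : E ≠ ⊤) (α : MulAut Q) (hα : (E ⊔ γ 1).map α.toMonoidHom ≠ E ⊔ γ 1) :
    E ⊔ E.map α.toMonoidHom = ⊤ := by
  refine eq_top_of_sup_lcs_one ?_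
  set M := E ⊔ γ 1 with hM
  have e : E ⊔ E.map α.toMonoidHom ⊔ γ 1 = M ⊔ M.map α.toMonoidHom := by
    rw [hM, Subgroup.map_sup, map_lcs_top, sup_sup_sup_comm, sup_idem]
  rw [e]
  by_contra hne'
  have hidx : (M.map α.toMonoidHom).index = p := by
    rw [Subgroup.index_map_of_bijective (f := α.toMonoidHom) α.bijective]; exact h.index_max hne
  have e1 := eq_of_le_of_prime_index hp (h.index_max hne) (le_sup_left : M ≤ M ⊔ M.map α.toMonoidHom) hne'
  have e2 := eq_of_le_of_prime_index hp hidx (le_sup_right : M.map α.toMonoidHom ≤ M ⊔ M.map α.toMonoidHom) hne'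
  exact hα (e2.trans e1.symm)

/-- Any two of the conjugates of the maximal member meet in the same subgroup. -/
theorem inter_le [Finite Q] [Group.IsNilpotent Q] (hp : p.Prime) (h : IsTowerTop p E) (hne : E ≠ ⊤)
    (α β : MulAut Q) (hα : (E ⊔ γ 1).map α.toMonoidHom ≠ E ⊔ γ 1) :
    (E ⊔ γ 1) ⊓ (E ⊔ γ 1).map α.toMonoidHom ≤ (E ⊔ γ 1).map β.toMonoidHom := by
  have := h.comm
  have := isMulCommutative_map E α
  have := isMulCommutative_map E β
  set M := E ⊔ γ 1 with hM
  have hidx : ∀ θ : MulAut Q, (M.map θ.toMonoidHom).index = p := fun θ => by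
    rw [Subgroup.index_map_of_bijective θ.bijective]; exact h.index_max hne
  have hgen := h.sup_map_eq_top hp hne α hα
  rintro a ⟨ha, ha'⟩
  have ha'' : a ∈ E.map α.toMonoidHom ⊔ γ 1 := by
    rw [SetLike.mem_coe, hM, Subgroup.map_sup, map_lcs_top] at ha'
    exact ha'
  have hcen : ∀ x, Commute (QuotientGroup.mk' (γ 2) a) (QuotientGroup.mk' (γ 2) x) :=
    comm_all_of_generators hgen (fun s hs => comm_mod ha hs) (fun t ht => comm_mod ha'' ht)
  by_contra hb
  have htop : M.map β.toMonoidHom ⊔ Subgroup.zpowers a = ⊤ := by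
    by_contra hne'
    exact hb ((eq_of_le_of_prime_index hp (hidx β) le_sup_left hne').symm ▸
      Subgroup.mem_sup_right (Subgroup.mem_zpowers a))
  refine h.not_commutative hne (eq_bot_of_lcs_le_succ ?_)
  conv_lhs => rw [Subgroup.lowerCentralSeries_succ, Subgroup.lowerCentralSeries_zero]
  rw [Subgroup.commutator_le]
  intro x _ y _
  rw [← QuotientGroup.eq_one_iff, ← QuotientGroup.mk'_apply, map_commutatorElement,
    commutatorElement_eq_one_iff_commute]
  have hMb : M.map β.toMonoidHom = E.map β.toMonoidHom ⊔ γ 1 := by rw [hM, Subgroup.map_sup, map_lcs_top]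
  have e : ∀ s ∈ E.map β.toMonoidHom, ∀ z, Commute (QuotientGroup.mk' (γ 2) s) (QuotientGroup.mk' (γ 2) z) := by
    intro s hs z
    refine comm_all_of_generators htop (fun u hu => (comm_mod (hMb ▸ hu) hs).symm) ?_ z
    rintro _ ⟨k, rfl⟩
    rw [map_zpow]
    exact ((hcen s).symm).zpow_right k
  refine comm_all_of_generators htop ?_ ?_ y
  · intro u hu
    rw [hMb] at hu
    obtain ⟨s, hs, c, hc, rfl⟩ := Subgroup.mem_sup_of_normal_right.mp hu
    rw [map_mul]
    refine (e s hs x).symm.mul_right ?_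
    rw [← commutatorElement_eq_one_iff_commute, ← map_commutatorElement, ← commutatorElement_inv]
    exact (QuotientGroup.eq_one_iff _).mpr (inv_mem (Subgroup.commutator_mem_commutator hc (Subgroup.mem_top x)))
  · rintro _ ⟨k, rfl⟩
    rw [map_zpow]
    exact ((hcen x).symm).zpow_right k

/-- The class of a member of the tower. -/
theorem nilpotencyClass_eq [Finite Q] [Group.IsNilpotent Q] (hp : p.Prime) (hQ : IsPGroup p Q)
    (h : IsTowerTop p E) {j : ℕ} (hj : E.index = p ^ j) (hj0 : j ≠ 0)
    (α : MulAut Q) (hα : (E ⊔ γ 1).map α.toMonoidHom ≠ E ⊔ γ 1) :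
    Group.nilpotencyClass Q = j + 1 := by
  have := h.comm
  have hne : E ≠ ⊤ := by
    intro he; rw [he, Subgroup.index_top] at hj
    exact hj0 (Nat.pow_eq_one.mp hj.symm |>.resolve_left hp.one_lt.ne')
  have hgen := h.sup_map_eq_top hp hne α hα
  have hupper : γ (j + 1) = ⊥ := by
    by_contra hbot
    have hstep : ∀ m ≤ j + 1, p ^ m ∣ (E ⊔ γ m).index := by
      intro m
      induction m with
      | zero => intro _; simp
      | succ m ih =>
        intro hm
        have hle : E ⊔ γ (m + 1) ≤ E ⊔ γ m :=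
          sup_le_sup_left (Subgroup.lowerCentralSeries_antitone _ (Nat.le_succ m)) E
        rw [← Subgroup.relIndex_mul_index hle, pow_succ']
        refine mul_dvd_mul ?_ (ih (by omega))
        have := Fact.mk hp
        obtain ⟨t, ht⟩ := (hQ.to_subgroup (E ⊔ γ m)).index ((E ⊔ γ (m + 1)).subgroupOf (E ⊔ γ m))
        rw [Subgroup.relIndex, ht]
        refine dvd_pow_self p ?_
        rintro rfl
        rw [pow_zero] at ht
        have heq : E ⊔ γ m ≤ E ⊔ γ (m + 1) := Subgroup.subgroupOf_eq_top.mp (Subgroup.index_eq_one.mp ht)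
        have := lcs_succ_eq_bot α hgen (le_sup_right.trans heq)
        exact hbot (le_bot_iff.mp (this ▸ Subgroup.lowerCentralSeries_antitone _ (show m + 1 ≤ j + 1 by omega)))
    have h1 := (hstep (j + 1) le_rfl).trans (Subgroup.index_dvd_of_le (le_sup_left : E ≤ E ⊔ γ (j + 1)))
    rw [hj, Nat.pow_dvd_pow_iff_le_right hp.one_lt] at h1
    omega
  have hlower : γ j ≠ ⊥ := by
    intro hbot
    obtain ⟨i, rfl⟩ := Nat.exists_eq_succ_of_ne_zero hj0
    have hE : γ i ≤ E := by
      refine le_trans (fun x hx => Subgroup.mem_centralizer_iff.mpr fun y _ => ?_) h.cent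
      have := Subgroup.commutator_mem_commutator hx (Subgroup.mem_top y)
      rw [← Subgroup.lowerCentralSeries_succ, hbot, Subgroup.mem_bot, commutatorElement_eq_one_iff_mul_comm] at this
      exact this.symm
    have hdown : ∀ k ≤ i, p ^ (i + 1 - k) ∣ (E ⊔ γ (i - k)).index := by
      intro k
      induction k with
      | zero => intro _; simp [sup_of_le_left hE, hj]
      | succ k ih =>
        intro hk
        have hih := ih (by omega)
        rw [show i - k = (i - (k + 1)) + 1 by omega] at hih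
        set m := i - (k + 1) with hm
        have hle : E ⊔ γ (m + 1) ≤ E ⊔ γ m :=
          sup_le_sup_left (Subgroup.lowerCentralSeries_antitone _ (Nat.le_succ m)) E
        have hne' : E ⊔ γ (m + 1) ≠ ⊤ := by
          intro he
          rw [he, Subgroup.index_top, Nat.dvd_one, Nat.pow_eq_one] at hih
          exact hih.elim hp.one_lt.ne' (by omega)
        have hr : (E ⊔ γ (m + 1)).relIndex (E ⊔ γ m) ∣ p := by
          rw [← h.step _ le_sup_left hne', ← Subgroup.relIndex_mul_relIndex _ _ _ hle (lcs_le_normalizer_sup E m)]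
          exact dvd_mul_right _ _
        rw [← Subgroup.relIndex_mul_index hle, show i + 1 - k = (i + 1 - (k + 1)) + 1 by omega, pow_succ'] at hih
        exact (Nat.mul_dvd_mul_iff_left hp.pos).mp (hih.trans (mul_dvd_mul_right hr _))
    have h1 := hdown i le_rfl
    simp only [Nat.sub_self, Subgroup.lowerCentralSeries_zero, sup_top_eq, Subgroup.index_top] at h1
    rw [show i + 1 - i = 1 by omega, pow_one, Nat.dvd_one] at h1
    exact hp.one_lt.ne' h1
  apply le_antisymm
  · exact Subgroup.lowerCentralSeries_eq_bot_iff_nilpotencyClass_le.mp hupper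
  · by_contra hlt
    exact hlower (Subgroup.lowerCentralSeries_eq_bot_iff_nilpotencyClass_le.mpr (by omega))

end Cfsg.Agent.Soft
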