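import Mathlib
import Cfsg.Agent.Lib.MinimalNormal

/-! Minimal normal subgroups normalize subnormal subgroups (Wielandt). -/

namespace Cfsg.Agent.Wielandt

universe u

theorem minimalNormal_le_normalizer_aux :
    ∀ (n : ℕ) (G : Type u) [Group G] [Finite G], Nat.card G ≤ n → ∀ (A N : Subgroup G), A.Normal →
      A ≠ ⊥ → (∀ L : Subgroup G, L.Normal → L ≤ A → L = ⊥ ∨ L = A) → N.IsSubnormal →
      A ≤ Subgroup.normalizer (N : Set G) := by
  intro n
  induction n with
  | zero =>
    intro G _ _ hn
    have := Nat.card_pos (α := G)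
    omega
  | succ n ih =>
    intro G _ _ hn A N hA hA1 hmin hN
    rcases hN.lt_normal with rfl | ⟨K, hK, hNK, hKlt⟩
    · exact le_of_le_of_eq le_top (Subgroup.normalizer_eq_top_iff.mpr inferInstance).symm
    rcases hmin (A ⊓ K) inferInstance inf_le_left with h | h
    · intro a ha
      refine Subgroup.centralizer_le_normalizer (N : Set G) ?_
      intro y hy
      exact Subgroup.commute_of_normal_of_disjoint K A hK hA
        (by rw [disjoint_iff, inf_comm, h]) y a (hNK hy) ha
    have hAK : A ≤ K := inf_eq_left.mp h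
    have hne : A.subgroupOf K ≠ ⊥ := by
      rw [Ne, Subgroup.subgroupOf_eq_bot, disjoint_iff, h]
      exact hA1
    obtain ⟨B, hB, hB1, hBA, hBmin⟩ := MinNormal.exists_minimal_normal_le (A.subgroupOf K) hne
    have hlt : Nat.card K ≤ n := by
      have h2 : Nat.card K < Nat.card G := by
        refine lt_of_le_of_ne (Subgroup.card_le_card_group K) fun hc => hKlt.ne ?_
        exact Subgroup.eq_top_of_card_eq K hc
      omega
    have key : ∀ e : K ≃* K, B.map e.toMonoidHom ≤ Subgroup.normalizer (N.subgroupOf K : Set K) := by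
      intro e
      refine ih K hlt _ _ (hB.map _ e.surjective) ?_ ?_ hN.subgroupOf
      · rwa [Ne, Subgroup.map_eq_bot_iff_of_injective _ e.injective]
      · intro L hL hLe
        rcases hBmin (L.comap e.toMonoidHom) (hL.comap _)
            ((Subgroup.comap_mono hLe).trans
              (Subgroup.comap_map_eq_self_of_injective e.injective B).le) with h' | h'
        · left
          rw [← Subgroup.map_comap_eq_self_of_surjective (f := e.toMonoidHom) e.surjective L, h',
            Subgroup.map_bot]
        · right
          rw [← h', Subgroup.map_comap_eq_self_of_surjective (f := e.toMonoidHom) e.surjective]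
    have hclosure : Subgroup.normalClosure ((B.map K.subtype : Subgroup G) : Set G) = A := by
      have hle : B.map K.subtype ≤ A :=
        (Subgroup.map_mono hBA).trans (Subgroup.map_subgroupOf_eq_of_le hAK).le
      rcases hmin _ inferInstance (Subgroup.normalClosure_le_normal hle) with h' | h'
      · refine absurd ?_ hB1
        rw [← Subgroup.map_eq_bot_iff_of_injective _ K.subtype_injective, eq_bot_iff, ← h']
        exact Subgroup.le_normalClosure
      · exact h'
    rw [← hclosure, Subgroup.normalClosure, Subgroup.closure_le]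
    intro x hx
    rw [Group.mem_conjugatesOfSet_iff] at hx
    obtain ⟨b, ⟨b', hb', rfl⟩, hconj⟩ := hx
    obtain ⟨g, rfl⟩ := isConj_iff.mp hconj
    have h1 := key (MulAut.conjNormal g) ⟨b', hb', rfl⟩
    rw [Subgroup.mem_normalizer_iff] at h1
    rw [SetLike.mem_coe, Subgroup.mem_normalizer_iff]
    intro y
    constructor
    · intro hy
      have h3 := (h1 ⟨y, hNK hy⟩).mp (Subgroup.mem_subgroupOf.mpr hy)
      simpa [Subgroup.mem_subgroupOf, MulAut.conjNormal_apply] using h3
    · intro hy
      have hyK : y ∈ K := by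
        have hc : g * (K.subtype b') * g⁻¹ ∈ K := hK.conj_mem _ b'.2 g
        have := mul_mem (mul_mem (inv_mem hc) (hNK hy)) hc
        rwa [show (g * K.subtype b' * g⁻¹)⁻¹ *
          (g * K.subtype b' * g⁻¹ * y * (g * K.subtype b' * g⁻¹)⁻¹) *
          (g * K.subtype b' * g⁻¹) = y by group] at this
      have h3 := (h1 ⟨y, hyK⟩).mpr
        (by simpa [Subgroup.mem_subgroupOf, MulAut.conjNormal_apply] using hy)
      simpa [Subgroup.mem_subgroupOf] using h3

/-- A minimal normal subgroup of a finite group normalizes every subnormal subgroup. -/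
theorem minimalNormal_le_normalizer {G : Type u} [Group G] [Finite G] {A N : Subgroup G}
    [hA : A.Normal] (hA1 : A ≠ ⊥) (hmin : ∀ L : Subgroup G, L.Normal → L ≤ A → L = ⊥ ∨ L = A)
    (hN : N.IsSubnormal) : A ≤ Subgroup.normalizer (N : Set G) :=
  minimalNormal_le_normalizer_aux _ G le_rfl A N hA hA1 hmin hN

/-- A subnormal subgroup contained in a maximal subgroup lies in its core. -/
theorem le_normalCore_of_isCoatom {G : Type u} [Group G] [Finite G] {M N : Subgroup G}
    (hM : IsCoatom M) (hN : N.IsSubnormal) (hNM : N ≤ M) : N ≤ M.normalCore := by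
  set C := M.normalCore
  set f := QuotientGroup.mk' C with hf
  have hsurj : Function.Surjective f := QuotientGroup.mk'_surjective C
  have hCM : C ≤ M := M.normalCore_le
  have hcomap : (M.map f).comap f = M := by
    rw [Subgroup.comap_map_eq, QuotientGroup.ker_mk', sup_eq_left.mpr hCM]
  have : Nontrivial (G ⧸ C) :=
    QuotientGroup.nontrivial_iff.mpr fun h => hM.1 (top_le_iff.mp (h ▸ hCM))
  obtain ⟨A, hA, hA1, hmin⟩ := MinNormal.exists_minimal_normal (G := G ⧸ C)
  have hAN := minimalNormal_le_normalizer hA1 hmin (hN.map (f := f) hsurj)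
  have hnot : ¬ A ≤ M.map f := by
    intro h
    apply hA1
    have h1 : A.comap f ≤ M := (Subgroup.comap_mono h).trans hcomap.le
    have h2 : A.comap f ≤ C := Subgroup.normal_le_normalCore.mpr h1
    rw [← Subgroup.map_comap_eq_self_of_surjective hsurj A, eq_bot_iff,
      Subgroup.map_le_iff_le_comap]
    rwa [hf, MonoidHom.comap_bot, QuotientGroup.ker_mk']
  have htop : M.map f ⊔ A = ⊤ := by
    have h1 : (M.map f ⊔ A).comap f = ⊤ := by
      refine hM.2 _ ((Subgroup.le_comap_map f M).trans (Subgroup.comap_mono le_sup_left) |>.lt_of_ne ?_)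
      intro h
      apply hnot
      have h' := congrArg (Subgroup.map f) h
      rw [Subgroup.map_comap_eq_self_of_surjective hsurj] at h'
      exact le_sup_right.trans h'.ge
    rw [← Subgroup.map_comap_eq_self_of_surjective hsurj (M.map f ⊔ A), h1,
      Subgroup.map_top_of_surjective f hsurj]
  intro n hn b
  have hb : f b ∈ M.map f ⊔ A := htop ▸ Subgroup.mem_top _
  obtain ⟨m, hm, a, ha, hma⟩ := Subgroup.mem_sup_of_normal_right.mp hb
  show b * n * b⁻¹ ∈ M
  rw [← hcomap, Subgroup.mem_comap, map_mul, map_mul, map_inv, ← hma,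
    show m * a * f n * (m * a)⁻¹ = m * (a * f n * a⁻¹) * m⁻¹ by group]
  exact mul_mem (mul_mem hm (Subgroup.map_mono hNM
    ((Subgroup.mem_normalizer_iff.mp (hAN ha) _).mp (Subgroup.mem_map_of_mem f hn)))) (inv_mem hm)

end Cfsg.Agent.Wielandt
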